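import Groth.Agent.AlgStLib.DiagCover
import Groth.Agent.AlgStLib.Charts
import Groth.Agent.AlgStLib.SepUnivClosed
import Groth.Agent.AlgSpLib.AffineDescProps
import Groth.Agent.AlgSpDec.AffineProps
import Groth.Agent.ArtinBoot49.EtaleQuot
import Groth.Prelude.Def_W4stkstmodspWNA

/-!
# Well-nigh affine stacks
-/

set_option autoImplicit false
set_option backward.isDefEq.respectTransparency false
set_option backward.isDefEq.respectTransparency.types false

universe u

open CategoryTheory CategoryTheory.Functor CategoryTheory.Limits AlgebraicGeometry Opposite AlgSp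
open Groth.Agent.FibBase Groth.Agent.AlgSpLib Groth.Agent.AlgStLib

namespace Groth.Agent.WNA49

variable {S : Scheme.{u}} {𝒳 : AlgSt.Cat S}

theorem stableBC_isFiniteMor : StableBC (IsFiniteMor (S := S)) :=
  fun _ _ _ _ _ _ _ _ _ _ _ _ sq h =>
    AlgSpDec.isFiniteMor_iff_repWith.2 (repWith_of_isPullback sq (AlgSpDec.isFiniteMor_iff_repWith.1 h))

theorem cancels_isFiniteMor : Cancels (IsFiniteMor (S := S)) IsSeparatedMor := by
  intro X Y Z _ _ _ a b hab hb
  refine AlgSpDec.isFiniteMor_iff_repWith.2 (AlgSpDec.repWith_of_postcomp ?_ (AlgSpDec.isFiniteMor_iff_repWith.1 hab))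
  exact repWith_mono (fun _ _ g (_ : IsClosedImmersion g) => inferInstanceAs (IsFinite g)) _ hb

theorem isSeparatedMor_yon_map_of_affine (U : Over S) [IsAffine U.left] (k : U ⟶ Over.mk (𝟙 S)) :
    IsSeparatedMor ((yon S).map k) := by
  have : IsSeparated k.left := IsSeparated.of_comp k.left (CategoryTheory.Limits.terminal.from S)
  exact repWith_diagonal ((repWith_yon_map_iff _ k).2 this) fun e (_ : IsSeparated e) =>
    inferInstanceAs (IsClosedImmersion (pullback.diagonal e))

theorem repByAlgSpWith_of_eq {P : MorphismProperty (Sp S)} {𝒴 : AlgSt.Cat S} {f f' : 𝒳 ⥤ᵇ 𝒴} (h : f = f')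
    (hf : AlgSt.RepByAlgSpWith P f') : AlgSt.RepByAlgSpWith P f := by
  subst h; exact hf

/-- A finite locally free cover by an affine scheme makes the diagonal finite. -/
theorem diag_finite (hΔ : AlgSt.RepByAlgSp1 (FibCat.diag (FibCat.toSelf 𝒳))) (hw : AlgSt.IsWellNighAffine 𝒳) :
    AlgSt.RepByAlgSpWith IsFiniteMor (FibCat.diag (FibCat.toSelf 𝒳)) := by
  obtain ⟨U, p, hU, hp⟩ := hw
  have hes : LocEssSurj p := locEssSurj_of_repByAlgSp (repByAlgSpWith_mono (fun _ _ _ h => h.1.1.2) hp)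
    (repByAlgSpWith_mono (fun _ _ _ h => h.2) hp) (repByAlgSpWith_mono (fun _ _ _ h => h.1.1.1) hp)
  let t := FibCat.toSelf 𝒳
  have hW : AlgSt.RepByAlgSpWith IsSeparatedMor (FibCat.toSelf (FibCat.overCat U : AlgSt.Cat S)) :=
    ArtinBoot49.repByAlgSpWith_toSelf_overCat stableBC_isSeparatedMor U (isSeparatedMor_yon_map_of_affine U)
  have hfst : AlgSt.RepByAlgSpWith IsSeparatedMor
      (FibCat.fpFst (BasedFunctor.comp p t) (BasedFunctor.comp p t)) :=
    repByAlgSpWith_fpFst _ (repByAlgSpWith_of_eq (comp_toSelf p) hW)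
  have hweak : AlgSt.RepByAlgSpWith IsFiniteMor (weaken p p t) :=
    repByAlgSpWith_of_comp stableBC_isFiniteMor cancels_isFiniteMor hfst
      (repByAlgSpWith_fpFst p (repByAlgSpWith_mono (fun _ _ _ h => h.1.2) hp))
  exact repByAlgSpWith_of_locEssSurj stableBC_isFiniteMor
    (isLocalOnBase_fppf_of_fpqc isLocalOnBase_fpqc_isFiniteMor) hΔ (locEssSurj_pairMap t hes hes)
    ((repByAlgSpWith_iff_of_square (f' := weaken p p t) (f := FibCat.fpFst (pairMap p p t) (FibCat.diag t))
      (a := diagComparison p p t) (b := BasedFunctor.id _) (diagComparison_isEquivOver p p t) isEquivOver_id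
      (Iso.refl _)).2 hweak)

/-- Well-nigh affine algebraic stacks are quasi-compact, quasi-DM and separated over the base. -/
theorem qc_qdm_sep (h𝒳 : AlgSt.IsAlgStack Scheme.fppfPrecoverage 𝒳) (hw : AlgSt.IsWellNighAffine 𝒳) :
    AlgSt.IsQuasiCompact 𝒳 ∧ AlgSt.IsQuasiDMOver 𝒳 ∧ AlgSt.IsSeparatedOver 𝒳 := by
  have hfin := diag_finite h𝒳.diag hw
  refine ⟨?_, ?_, ?_⟩
  · obtain ⟨U, p, hU, hp⟩ := hw
    refine (isQuasiCompact_iff_compactSpace_points h𝒳.isStack.1 h𝒳.atlas).2 ⟨?_⟩
    rw [← (ofChart_surjective h𝒳.isStack.1 (repByAlgSpWith_mono (fun _ _ _ h => h.1.1.1) hp)).range_eq]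
    exact isCompact_range (continuous_ofChart h𝒳.isStack.1 h𝒳.atlas p)
  · exact repByAlgSpWith_mono (fun _ _ _ h => locP_of_repWith (repWith_mono
      (fun _ _ e (_ : IsFinite e) => ⟨inferInstanceAs (LocallyQuasiFinite e), inferInstanceAs (LocallyOfFiniteType e)⟩)
      _ (AlgSpDec.isFiniteMor_iff_repWith.1 h))) hfin
  · exact repByAlgSpWith_mono_space (fun _ hG _ h => ((AlgSpDec.isFiniteMor_iff_affine_proper hG).1 h).2) hfin

end Groth.Agent.WNA49
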