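import Groth.Agent.WNA49.Basic
import Groth.Agent.AlgStLib.SpaceCalc
import Groth.Agent.AlgStLib.OverSpace
import Groth.Agent.AlgSpDec.MonoQuot
import Groth.Agent.GerbFlat.Section
import Groth.Agent.ConstQuot49.ModuliReduced

/-!
# Well-nigh affine algebraic spaces are affine
-/

set_option autoImplicit false
set_option backward.isDefEq.respectTransparency false
set_option backward.isDefEq.respectTransparency.types false

universe u

open CategoryTheory CategoryTheory.Functor CategoryTheory.Limits AlgebraicGeometry Opposite AlgSp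
open Groth.Agent.FibBase Groth.Agent.AlgSpLib Groth.Agent.AlgStLib

namespace Groth.Agent.WNA49

variable {S : Scheme.{u}} {𝒳 : AlgSt.Cat S}

/-- An algebraic space with a finite locally free cover by an affine scheme is affine. -/
theorem exists_affine (hw : AlgSt.IsWellNighAffine 𝒳) (hsp : AlgSt.RepByAlgSp 𝒳) :
    ∃ (U : Over S) (e : AlgSt.ofSch U ⥤ᵇ 𝒳), IsAffine U.left ∧ FibCat.IsEquivOver e := by
  obtain ⟨F, e₀, he₀⟩ := hsp
  obtain ⟨g, hg, -⟩ := isEquivOver_inv he₀
  obtain ⟨U, x, hU, hx⟩ := hw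
  let a : (yon S).obj U ⟶ F.obj := mapOfOver (BasedFunctor.comp x g)
  have hP : ∀ {P : MorphismProperty (Sp S)}, StableBC P → IsLocalOnBase IsFppfCover P →
      AlgSt.RepByAlgSpWith P x → P a := fun hb hl h =>
    property_of_repBySpWith hl (IsAlgSpace.yon_obj U) F.property
      (repBySpWith_of_repByAlgSpWith (BasedFunctor.comp x g) (AlgSt.toOverCat U) hb (isEquivOver_toOverCat U)
        (repByAlgSpWith_postcomp hg h) (isoOfSpMap (BasedFunctor.comp (AlgSt.toOverCat U) (BasedFunctor.comp x g))))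
  have hfin : RepWith @IsFinite a := AlgSpDec.isFiniteMor_iff_repWith.1
    (hP stableBC_isFiniteMor (isLocalOnBase_fppf_of_fpqc isLocalOnBase_fpqc_isFiniteMor)
      (repByAlgSpWith_mono (fun _ _ _ h => h.1.2) hx))
  have hflat : RepWith @Flat a := repWith_of_locP F.property hfin.rep
    (hP stableBC_locP (isLocalOnBase_fppf_of_fpqc isLocalOnBase_fpqc_locP)
      (repByAlgSpWith_mono (fun _ _ _ h => h.1.1.2) hx))
  have hlfp : RepWith @LocallyOfFinitePresentation a := repWith_of_locP F.property hfin.rep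
    (hP stableBC_locP (isLocalOnBase_fppf_of_fpqc isLocalOnBase_fpqc_locP)
      (repByAlgSpWith_mono (fun _ _ _ h => h.2) hx))
  have hsurj : RepWith @Surjective a := repWith_surjective_of_surjective hfin.rep
    (hP stableBC_isSurjectiveMor GerbFlat.isLocalOnBase_isSurjectiveMor
      (repByAlgSpWith_mono (fun _ _ _ h => h.1.1.1) hx))
  let r := hfin.rep
  obtain ⟨t, ht⟩ := (yon S).map_surjective (r.fst a)
  have sq : IsPullback ((yon S).map t) ((yon S).map (r.snd a)) a a := by
    rw [ht]; exact r.isPullback a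
  have : IsFinite (r.snd a).left := hfin.2 a _ _ (r.isPullback a)
  have : Flat (r.snd a).left := hflat.2 a _ _ (r.isPullback a)
  have : LocallyOfFinitePresentation (r.snd a).left := hlfp.2 a _ _ (r.isPullback a)
  obtain ⟨W, q, m, hW, hq, hm, hqm⟩ := AlgSpDec.exists_quot_of_finite_relation sq
  have hsurjm : ∀ (T : Over S) (ξ : F.obj.obj.obj (op T)), ∃ w, m.hom.app (op T) w = ξ := by
    intro T ξ
    obtain ⟨G, rfl⟩ : ∃ G : (yon S).obj T ⟶ F.obj, (J S).uliftYonedaEquiv G = ξ :=
      ⟨_, Equiv.apply_symm_apply _ ξ⟩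
    have : Surjective (r.snd G).left := hsurj.2 G _ _ (r.isPullback G)
    have : Flat (r.snd G).left := hflat.2 G _ _ (r.isPullback G)
    have : LocallyOfFinitePresentation (r.snd G).left := hlfp.2 G _ _ (r.isPullback G)
    refine ConstQuot49.exists_app_eq_of_local m _ (Groth.Agent.AlgSpLib.mem_J_of_fppf (r.snd G) (fppf_of _)
      (Sieve.generate (Presieve.singleton (r.snd G)))
      ⟨_, 𝟙 _, _, Presieve.singleton_self _, Category.id_comp _⟩) ?_
    rintro V k ⟨V', l, _, ⟨⟩, rfl⟩
    obtain ⟨b, hb⟩ := (yon S).map_surjective (r.fst G)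
    refine ⟨(⟨l ≫ b ≫ q⟩ : ((yon S).obj W).obj.obj (op V)), ?_⟩
    have hw : (yon S).map (b ≫ q) ≫ m = (yon S).map (r.snd G) ≫ G := by
      rw [Functor.map_comp, Category.assoc, hqm, hb]
      exact (r.isPullback G).w
    rw [← app_eq_uliftYonedaEquiv G (l ≫ r.snd G)]
    exact congrArg (fun z : (yon S).obj (r.pullback G) ⟶ F.obj => z.hom.app (op V)
      (⟨l⟩ : ((yon S).obj (r.pullback G)).obj.obj (op V))) hw
  have : ∀ T : (Over S)ᵒᵖ, IsIso (m.hom.app T) := fun T =>
    (isIso_iff_bijective _).2 ⟨ConstQuot49.app_injective_of_mono m T.unop, hsurjm T.unop⟩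
  have : IsIso m.hom := NatIso.isIso_of_isIso_app _
  have : IsIso m := (ObjectProperty.isIso_hom_iff m).1 this
  exact ⟨W, BasedFunctor.comp (AlgSt.ofSpMap m) e₀, hW, isEquivOver_comp (isEquivOver_ofSpMap m) he₀⟩

end Groth.Agent.WNA49
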