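import Groth.Agent.WNA49.Basic

/-!
# Stacks affine over well-nigh affine stacks
-/

set_option autoImplicit false
set_option backward.isDefEq.respectTransparency false
set_option backward.isDefEq.respectTransparency.types false

universe u

open CategoryTheory CategoryTheory.Functor CategoryTheory.Limits AlgebraicGeometry Opposite AlgSp
open Groth.Agent.FibBase Groth.Agent.AlgSpLib Groth.Agent.AlgStLib

namespace Groth.Agent.WNA49

variable {S : Scheme.{u}} {𝒳 𝒳' : AlgSt.Cat S}

theorem of_isAffineMor (hw : AlgSt.IsWellNighAffine 𝒳) (f : 𝒳' ⥤ᵇ 𝒳)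
    (hf : AlgSt.RepByAlgSpWith AlgSp.IsAffineMor f) : AlgSt.IsWellNighAffine 𝒳' := by
  obtain ⟨U, x, hU, hx⟩ := hw
  obtain ⟨F, e, he, hc⟩ := hf U x
  obtain ⟨W, i, fst, sq, hW⟩ := hc hU (𝟙 _)
  have : IsIso fst := sq.isIso_fst_of_isIso
  let E := BasedFunctor.comp (overOfMap fst) e
  have hE : FibCat.IsEquivOver E :=
    isEquivOver_comp (isEquivOver_comp (isEquivOver_ofOverCat W) (isEquivOver_ofSpMap fst)) he
  exact ⟨W, BasedFunctor.comp E (FibCat.fpSnd x f), hW,
    repByAlgSpWith_precomp hE (repByAlgSpWith_fpSnd f hx)⟩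

end Groth.Agent.WNA49
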