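import Groth.Agent.WNA49.Moduli
import Groth.Agent.ConstQuot49.Homeo
import Groth.Agent.AlgStLib.GeomLift
import Groth.Agent.AlgStLib.QuasiCompactImm
import Groth.Agent.AlgStLib.RepDiag

/-!
# Geometric properties of the affine moduli space of a well-nigh affine stack
-/

set_option autoImplicit false
set_option backward.isDefEq.respectTransparency false
set_option backward.isDefEq.respectTransparency.types false

universe u

open CategoryTheory CategoryTheory.Functor CategoryTheory.Limits AlgebraicGeometry Opposite AlgSp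
open Groth.Agent.FibBase Groth.Agent.AlgSpLib Groth.Agent.AlgStLib

namespace Groth.Agent.WNA49

variable {S : Scheme.{u}} {𝒳 : AlgSt.Cat S} {U : Over S} {x : FibCat.overCat U ⥤ᵇ 𝒳}

namespace Pres

variable [IsAffine U.left] (P : Pres x)
  {π : 𝒳 ⥤ᵇ AlgSt.ofSch P.M} (hπ : mapOfOver (BasedFunctor.comp x π) = (yon S).map P.q)

instance isAffine_M : IsAffine P.M.left := inferInstanceAs (IsAffine (Spec _))

theorem surjective_q : Function.Surjective P.q.left := GrpdLib.surjective_toQuot P.G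

theorem isIntegralHom_q : IsIntegralHom P.q.left := by
  have := GrpdLib.isIntegral_invariants P.G
  have : IsIntegralHom (Spec.map (CommRingCat.ofHom P.G.invariants.subtype)) :=
    IsIntegralHom.SpecMap_iff.mpr (algebraMap_isIntegral_iff.2 ‹_›)
  show IsIntegralHom P.G.toQuot
  have e : P.G.U.isoSpec.hom ≫ Spec.map (CommRingCat.ofHom P.G.invariants.subtype) = P.G.toQuot :=
    (GrpdLib.isoSpec_hom_toQuot P.G).symm
  rw [← e]
  infer_instance

include hπ in
theorem geomPtBij (hs : AlgSt.IsSurjective x)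
    (hlft : AlgSt.RepByAlgSpWith (LocP @LocallyOfFiniteType) x) : AlgSt.GeomPtBij π := by
  intro Ω _ _ t
  constructor
  · rintro ⟨m⟩
    obtain ⟨z₀, hz₀⟩ := GrpdLib.exists_lift_point P.G Ω m.left
    let z : Over.mk t ⟶ U := Over.homMk z₀ (by
      refine Eq.trans (congrArg (z₀ ≫ ·) (Over.w P.q).symm) ?_
      refine Eq.trans (Category.assoc _ _ _).symm ?_
      exact (congrArg (· ≫ P.M.hom) hz₀).trans (Over.w m))
    refine ⟨⟨x.obj (Over.mk z), x.w_obj (Over.mk z)⟩, ?_⟩
    rw [ConstQuot49.fibSec_eq]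
    refine ULift.ext _ _ ?_
    refine (secAt_point hπ z).trans ?_
    exact Over.OverMorphism.ext hz₀
  · intro y₁ y₂ hy
    have key : ∀ y : 𝒳.p.Fiber (Over.mk t), ∃ (z : Over.mk t ⟶ U) (i : x.obj (Over.mk z) ≅ y.1),
        𝒳.p.IsHomLift (𝟙 (Over.mk t)) i.hom ∧ AlgSt.fibSec π y = ⟨z ≫ P.q⟩ := by
      intro y
      obtain ⟨v, i, hv, hi⟩ := GeomLift.exists_iso_of_surjective (isFibGrpd_overCat _) P.h𝒳 hlft hs Ω t y.1 y.2
      have hv' : v.left = Over.mk t := hv
      let z : Over.mk t ⟶ U := eqToHom hv'.symm ≫ v.hom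
      let e : (Over.mk z : Over U) ≅ v := Over.isoMk (eqToIso hv'.symm) rfl
      have he : 𝒳.p.IsHomLift (𝟙 (Over.mk t)) (x.map e.hom) := by
        have : (FibCat.overCat U).p.IsHomLift (𝟙 (Over.mk t)) e.hom :=
          IsHomLift.of_fac' _ _ _ rfl hv' (by simp [e]; rfl)
        exact x.preserves_isHomLift _ _
      have hj : 𝒳.p.IsHomLift (𝟙 (Over.mk t)) (x.map e.hom ≫ i.hom) := inferInstance
      refine ⟨z, x.toFunctor.mapIso e ≪≫ i, hj, ?_⟩
      have h := map_secAt_of_lift π (a := z) y.2 _ hj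
      rw [hπ] at h
      rw [ConstQuot49.fibSec_eq]
      exact (res_id ((yon S).obj P.M).obj _ rfl _).symm.trans h
    obtain ⟨z₁, i₁, hi₁, e₁⟩ := key y₁
    obtain ⟨z₂, i₂, hi₂, e₂⟩ := key y₂
    have hz : z₁.left ≫ P.G.toQuot = z₂.left ≫ P.G.toQuot :=
      congrArg (fun w : ULift (Over.mk t ⟶ P.M) => w.down.left) (e₁.symm.trans (hy.trans e₂))
    obtain ⟨r, hrt, hrs⟩ := (GrpdLib.point_eq_iff P.G Ω z₁.left z₂.left).1 hz
    let f : Over.mk t ⟶ P.R := Over.homMk r (by
      refine Eq.trans (congrArg (r ≫ ·) (Over.w P.t).symm) ?_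
      refine Eq.trans (Category.assoc _ _ _).symm ?_
      exact (congrArg (· ≫ U.hom) hrt).trans (Over.w z₁))
    have ha : z₁ = (P.pt _ f).a := by rw [P.pt_a]; exact Over.OverMorphism.ext hrt.symm
    have hb : (P.pt _ f).b = z₂ := by rw [P.pt_b]; exact Over.OverMorphism.ext hrs
    let m := x.map (ofEq ha) ≫ (P.pt _ f).m ≫ x.map (ofEq hb)
    have hm : 𝒳.p.IsHomLift (𝟙 (Over.mk t)) m := by
      have := ofEq_lift (x := x) ha
      have := ofEq_lift (x := x) hb
      have := (P.pt _ f).lift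
      infer_instance
    have : IsIso m := isIso_of_lift (hp := P.h𝒳) (𝟙 (Over.mk t)) m
    refine ConstQuot49.fiber_iso y₁ y₂ (i₁.symm ≪≫ asIso m ≪≫ i₂) ?_
    have : 𝒳.p.IsHomLift (𝟙 (Over.mk t)) i₁.inv := IsHomLift.lift_id_inv 𝒳.p _ i₁
    have : 𝒳.p.IsHomLift (𝟙 (Over.mk t)) (i₁.inv ≫ m ≫ i₂.hom) := inferInstance
    exact map_eq_of_isHomLift_id (p := 𝒳.p) (S := Over.mk t) (φ := i₁.inv ≫ m ≫ i₂.hom) this |>.trans (by simp)

include hπ in
/-- The moduli map is a universal homeomorphism. -/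
theorem isUnivHomeo (h𝒳 : AlgSt.IsAlgStack Scheme.fppfPrecoverage 𝒳) (hs : AlgSt.IsSurjective x)
    (hlft : AlgSt.RepByAlgSpWith (LocP @LocallyOfFiniteType) x) :
    AlgSt.IsUnivHomeo Scheme.fppfPrecoverage π := by
  intro 𝒵 h𝒵 g
  have hB := isAlgStack_ofSp (S := S) ⟨(yon _).obj P.M, IsAlgSpace.yon_obj _⟩
  have hP := isAlgStack_fp h𝒵 h𝒳 hB.isStack hB.diag g π
  let q' := FibCat.fpFst g π
  have hinj : Function.Injective (AlgSt.Points.map q') :=
    ConstQuot49.injective_fpFst_of_geomPtBij P.h𝒳 h𝒵.isStack.1 (P.geomPtBij hπ hs hlft) g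
  obtain ⟨V, v, hv, hv'⟩ := id h𝒵.atlas
  let m : V ⟶ P.M := (secAt (BasedFunctor.comp v g) (Over.mk (𝟙 V))).down
  have hm : ∀ w : Over V, secAt (BasedFunctor.comp v g) w = ⟨w.hom ≫ m⟩ := fun w =>
    (secAt_map (BasedFunctor.comp v g) (Over.homMk w.hom (Category.comp_id _) :
      w ⟶ Over.mk (𝟙 V))).symm
  let Q := pullback m P.q
  let a : Q ⟶ V := pullback.fst _ _
  let b : Q ⟶ U := pullback.snd _ _
  let c : FibCat.overCat Q ⥤ᵇ FibCat.fp g π :=
    FibCat.fpLift (BasedFunctor.comp (AlgSt.overMap a) v) (BasedFunctor.comp (AlgSt.overMap b) x)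
      (pshIso _ _ fun w => by
        obtain ⟨W, r, rfl⟩ := w.mk_surjective
        have h1 : secAt (BasedFunctor.comp (BasedFunctor.comp (AlgSt.overMap a) v) g) (Over.mk r : Over Q) =
            ⟨(r ≫ a) ≫ m⟩ :=
          (CatModLocal.secAt_precomp (AlgSt.overMap a) (BasedFunctor.comp v g) _).trans
            ((res_id ((yon _).obj P.M).obj _ rfl _).trans (hm _))
        have h2 : secAt (BasedFunctor.comp (BasedFunctor.comp (AlgSt.overMap b) x) π) (Over.mk r : Over Q) =
            ⟨(r ≫ b) ≫ P.q⟩ := by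
          rw [CatModLocal.secAt_precomp]
          exact ULift.ext _ _ (secAt_point hπ (r ≫ b))
        rw [h1, h2, Category.assoc, Category.assoc, pullback.condition])
  have hc : ∀ s, AlgSt.Points.map q' (AlgSt.Points.ofChart c s) = AlgSt.Points.ofChart v (a.left s) := fun s => by
    rw [map_ofChart, ← ofChart_overMap]
    rfl
  have hpb : IsPullback a.left b.left m.left P.q.left :=
    (IsPullback.of_hasPullback m P.q).map (Over.forget _)
  have : IsIntegralHom a.left := MorphismProperty.of_isPullback hpb.flip P.isIntegralHom_q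
  have : Surjective P.q.left := ⟨P.surjective_q⟩
  have : Surjective a.left := MorphismProperty.of_isPullback hpb.flip (P := @Surjective) inferInstance
  have hxs := ofChart_surjective h𝒵.isStack.1 hv'
  have hsurj : Function.Surjective (AlgSt.Points.map q') := fun z => by
    obtain ⟨w, rfl⟩ := hxs z
    obtain ⟨s, rfl⟩ := a.left.surjective w
    exact ⟨_, hc s⟩
  have hclosed : IsClosedMap (AlgSt.Points.map q') := fun C hC => by
    have hpre : AlgSt.Points.ofChart v ⁻¹' (AlgSt.Points.map q' '' C) =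
        a.left '' (AlgSt.Points.ofChart c ⁻¹' C) := by
      ext w
      constructor
      · rintro ⟨z, hz, hzw⟩
        obtain ⟨s, rfl⟩ := a.left.surjective w
        refine ⟨s, ?_, rfl⟩
        rw [Set.mem_preimage, ← hinj (hzw.trans (hc s).symm)]
        exact hz
      · rintro ⟨s, hs, rfl⟩
        exact ⟨_, hs, hc s⟩
    have hcl : IsClosed (AlgSt.Points.ofChart v ⁻¹' (AlgSt.Points.map q' '' C)) := by
      rw [hpre]
      exact a.left.isClosedMap _ (hC.preimage (continuous_ofChart hP.isStack.1 hP.atlas c))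
    refine isOpen_compl_iff.1 (isOpen_of_chart h𝒵.isStack.1 (repByAlgSpWith_flat_of_smooth hv)
      (repByAlgSpWith_lfp_of_smooth hv) hv' ?_)
    rw [Set.preimage_compl]
    exact hcl.isOpen_compl
  exact isHomeomorph_iff_continuous_isClosedMap_bijective.mpr
    ⟨continuous_pts_map h𝒵.isStack.1 h𝒵.atlas q', hclosed, hinj, hsurj⟩

end Pres

/-- A universal homeomorphism of algebraic stacks to a space is quasi-compact. -/
theorem isQuasiCompactMor_of_isUnivHomeo {M : Over S} (h𝒳 : AlgSt.IsAlgStack Scheme.fppfPrecoverage 𝒳)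
    {π : 𝒳 ⥤ᵇ AlgSt.ofSch M} (h : AlgSt.IsUnivHomeo Scheme.fppfPrecoverage π) :
    AlgSt.IsQuasiCompactMor Scheme.fppfPrecoverage π := by
  intro 𝒵 h𝒵 hq g
  have hB := isAlgStack_ofSp (S := S) ⟨(yon _).obj M, IsAlgSpace.yon_obj _⟩
  have hP := isAlgStack_fp h𝒵 h𝒳 hB.isStack hB.diag g π
  have := (isQuasiCompact_iff_compactSpace_points h𝒵.isStack.1 h𝒵.atlas).1 hq
  exact (isQuasiCompact_iff_compactSpace_points hP.isStack.1 hP.atlas).2
    (h 𝒵 h𝒵 g).homeomorph.symm.compactSpace

/-- A map from a separated stack to an affine scheme is separated. -/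
theorem isSeparatedMor_of_isSeparatedOver (h𝒳 : AlgSt.IsAlgStack Scheme.fppfPrecoverage 𝒳)
    (hsep : AlgSt.IsSeparatedOver 𝒳) {M : Over S} [IsAffine M.left] (π : 𝒳 ⥤ᵇ AlgSt.ofSch M) :
    AlgSt.IsSeparatedMor π := by
  have hM : AlgSt.RepByAlgSpWith IsSeparatedMor (FibCat.toSelf (AlgSt.ofSch M)) :=
    repByAlgSpWith_of_eq (comp_toSelf (AlgSt.toOverCat M)).symm
      (repByAlgSpWith_precomp (isEquivOver_toOverCat M)
        (ArtinBoot49.repByAlgSpWith_toSelf_overCat stableBC_isSeparatedMor M (isSeparatedMor_yon_map_of_affine M)))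
  have hd : AlgSt.RepByAlgSpWith IsSeparatedMor (FibCat.diag (FibCat.toSelf (AlgSt.ofSch M))) :=
    repByAlgSpWith_diag_of_repByAlgSp1 stableBC_isSeparatedMor (repByAlgSp1_of_repByAlgSpWith hM)
      fun {F U} a hF _ _ _ _ => isSeparatedMor_of_comp (b := pullback.fst a a) (by
        rw [pullback.diagonal_fst]
        exact repWith_of_isIso _ _)
  exact repByAlgSpWith_diag_of_comp stableBC_isProperMor cancels_isProperMor hd
    (repByAlgSpWith_diag_congr (comp_toSelf π) hsep)

end Groth.Agent.WNA49
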