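import Groth.Prelude.Def_AlgSt2
import Groth.Agent.AlgStLib.SheafGlue
import Groth.Agent.GerbLib.Glue
import Groth.Agent.StkLib.Basic
import Groth.Agent.AlgStLib.OfSp
import Groth.Agent.FibBase.FpMaps

/-!
# Sheaves of isomorphisms in a prestack with small morphisms
-/

set_option backward.isDefEq.respectTransparency false
set_option backward.isDefEq.respectTransparency.types false

universe u

open CategoryTheory CategoryTheory.Functor CategoryTheory.Limits Opposite AlgebraicGeometry AlgSp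
open Groth.Agent.FibBase Groth.Agent.AlgSpLib Groth.Agent.StkLib Groth.Agent.GerbLib

open Groth.Agent.AlgStLib

namespace Groth.Agent.WNA49.IsomSheaf

variable {S : Scheme.{u}} {𝒴 : AlgSt.Cat S} {U : Over S}

section

variable (y₁ y₂ : FibCat.overCat U ⥤ᵇ 𝒴)

/-- A point of the sheaf of isomorphisms. -/
structure Pt (W : Over S) : Type (u + 1) where
  t : W ⟶ U
  m : y₁.obj (Over.mk t) ⟶ y₂.obj (Over.mk t)
  lift : 𝒴.p.IsHomLift (𝟙 W) m

variable {y₁ y₂}

theorem Pt.ext' {W : Over S} {x x' : Pt y₁ y₂ W} (ht : x.t = x'.t)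
    (hm : ∀ h : (Over.mk x.t : Over U) ⟶ Over.mk x'.t, h.left = 𝟙 W → y₁.map h ≫ x'.m = x.m ≫ y₂.map h) : x = x' := by
  obtain ⟨t, m, _⟩ := x
  obtain ⟨t', m', _⟩ := x'
  obtain rfl : t = t' := ht
  have h := hm (𝟙 _) rfl
  rw [y₁.toFunctor.map_id, y₂.toFunctor.map_id, Category.id_comp, Category.comp_id] at h
  obtain rfl : m' = m := h
  rfl

/-- Two points related by restriction. -/
def IsRes {W W' : Over S} (g : W' ⟶ W) (x' : Pt y₁ y₂ W') (x : Pt y₁ y₂ W) : Prop :=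
  x'.t = g ≫ x.t ∧ ∀ h : (Over.mk x'.t : Over U) ⟶ Over.mk x.t, h.left = g → x'.m ≫ y₂.map h = y₁.map h ≫ x.m

variable (hY : FibCat.IsFibGrpd 𝒴.p)

theorem map_toId_eq {W W' : Over S} {t : W ⟶ U} {t' : W' ⟶ U} (h : (Over.mk t' : Over U) ⟶ Over.mk t) :
    h ≫ toId (Over.mk t) = toId (Over.mk t') := Over.OverMorphism.ext (Over.w h)

include hY in
theorem existsUnique_res {W W' : Over S} (g : W' ⟶ W) (x : Pt y₁ y₂ W) : ∃! x' : Pt y₁ y₂ W', IsRes g x' x := by
  let h₀ : (Over.mk (g ≫ x.t) : Over U) ⟶ Over.mk x.t := Over.homMk g rfl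
  have := x.lift
  have hs : 𝒴.p.IsHomLift g (y₂.map h₀) := overMap_isHomLift y₂ h₀
  have : 𝒴.p.IsHomLift g (y₁.map h₀) := overMap_isHomLift y₁ h₀
  have := isSC (hp := hY) g (y₂.map h₀)
  have : 𝒴.p.IsHomLift g (y₁.map h₀ ≫ x.m) := IsHomLift.comp_lift_id_right' 𝒴.p g (y₁.map h₀) W x.m
  let m' := IsStronglyCartesian.map 𝒴.p g (y₂.map h₀) (Category.id_comp g).symm (y₁.map h₀ ≫ x.m)
  have hm' : m' ≫ y₂.map h₀ = y₁.map h₀ ≫ x.m := IsStronglyCartesian.fac _ _ _ _ _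
  refine ⟨⟨g ≫ x.t, m', inferInstance⟩, ⟨rfl, fun h hh => ?_⟩, ?_⟩
  · obtain rfl : h = h₀ := Over.OverMorphism.ext hh
    exact hm'
  · rintro ⟨t'', m'', hl⟩ ⟨ht, hr⟩
    obtain rfl : t'' = g ≫ x.t := ht
    have e : m'' = m' := IsStronglyCartesian.ext 𝒴.p g (y₂.map h₀) (𝟙 W') ((hr h₀ rfl).trans hm'.symm)
    subst e
    rfl

/-- Restriction of points. -/
noncomputable def res {W W' : Over S} (g : W' ⟶ W) (x : Pt y₁ y₂ W) : Pt y₁ y₂ W' :=
  (existsUnique_res hY g x).exists.choose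

theorem isRes_res {W W' : Over S} (g : W' ⟶ W) (x : Pt y₁ y₂ W) : IsRes g (res hY g x) x :=
  (existsUnique_res hY g x).exists.choose_spec

theorem res_eq {W W' : Over S} {g : W' ⟶ W} {x : Pt y₁ y₂ W} {x' : Pt y₁ y₂ W'} (h : IsRes g x' x) :
    res hY g x = x' :=
  (existsUnique_res hY g x).unique (isRes_res hY g x) h

theorem isRes_id {W : Over S} (x : Pt y₁ y₂ W) : IsRes (𝟙 W) x x :=
  ⟨(Category.id_comp _).symm, fun h hh => by
    obtain rfl : h = 𝟙 _ := Over.OverMorphism.ext hh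
    rw [y₁.toFunctor.map_id, y₂.toFunctor.map_id, Category.id_comp, Category.comp_id]⟩

theorem isRes_comp {W W' W'' : Over S} {g : W' ⟶ W} {g' : W'' ⟶ W'} {x : Pt y₁ y₂ W} {x' : Pt y₁ y₂ W'}
    {x'' : Pt y₁ y₂ W''} (h : IsRes g x' x) (h' : IsRes g' x'' x') : IsRes (g' ≫ g) x'' x := by
  refine ⟨by rw [h'.1, h.1, Category.assoc], fun k hk => ?_⟩
  let k₁ : (Over.mk x'.t : Over U) ⟶ Over.mk x.t := Over.homMk g h.1.symm
  let k₂ : (Over.mk x''.t : Over U) ⟶ Over.mk x'.t := Over.homMk g' h'.1.symm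
  obtain rfl : k = k₂ ≫ k₁ := Over.OverMorphism.ext hk
  rw [y₂.toFunctor.map_comp, y₁.toFunctor.map_comp, ← Category.assoc, h'.2 k₂ rfl, Category.assoc, h.2 k₁ rfl,
    Category.assoc]

variable (y₁ y₂) in
/-- The presheaf of isomorphisms. -/
noncomputable def presheaf : (Over S)ᵒᵖ ⥤ Type (u + 1) where
  obj W := Pt y₁ y₂ W.unop
  map g := TypeCat.ofHom (res hY g.unop)
  map_id W := by
    ext x
    exact res_eq hY (isRes_id x)
  map_comp g g' := by
    ext x
    exact res_eq hY (isRes_comp (isRes_res hY g.unop x) (isRes_res hY g'.unop _))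

variable (h : Stk.IsPrestack (J S) 𝒴)

theorem isSheaf_presheaf : Presheaf.IsSheaf (J S) (presheaf y₁ y₂ h.1) := by
  rw [isSheaf_iff_isSheaf_of_type]
  intro W T hT
  rw [← Presieve.isSeparatedFor_and_exists_isAmalgamation_iff_isSheafFor]
  refine ⟨fun fam x x' hx hx' => ?_, fun fam hfam => ?_⟩
  · have e : ∀ ⦃V : Over S⦄ (f : V ⟶ W), T f → res h.1 f x = res h.1 f x' :=
      fun V f hf => (hx f hf).trans (hx' f hf).symm
    have ht : x.t = x'.t := (yon S).map_injective (hom_ext_of_covering _ _ hT fun V f hf => by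
      rw [← Functor.map_comp, ← Functor.map_comp, ← (isRes_res h.1 f x).1, ← (isRes_res h.1 f x').1, e f hf])
    refine Pt.ext' ht fun k hk => ?_
    have hW : 𝒴.p.obj (y₁.obj (Over.mk x.t)) = W := y₁.w_obj _
    have := x.lift
    have := x'.lift
    have hk1 : 𝒴.p.IsHomLift (𝟙 W) (y₁.map k) := hk ▸ overMap_isHomLift y₁ k
    have hk2 : 𝒴.p.IsHomLift (𝟙 W) (y₂.map k) := hk ▸ overMap_isHomLift y₂ k
    refine hom_ext_local h _ _ ?_ (R := T.pullback (eqToHom hW)) ((J S).pullback_stable _ hT) fun V f hf => ?_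
    · have l1 : 𝒴.p.IsHomLift (𝟙 W) (y₁.map k ≫ x'.m) := inferInstance
      have l2 : 𝒴.p.IsHomLift (𝟙 W) (x.m ≫ y₂.map k) := inferInstance
      rw [IsHomLift.fac' 𝒴.p (𝟙 W) (y₁.map k ≫ x'.m), IsHomLift.fac' 𝒴.p (𝟙 W) (x.m ≫ y₂.map k)]
    · let g := f ≫ eqToHom hW
      let a : (Over.mk (res h.1 g x).t : Over U) ⟶ Over.mk x.t := Over.homMk g (isRes_res h.1 g x).1.symm
      refine ⟨_, y₁.map a, ?_, ?_⟩
      · have : 𝒴.p.IsHomLift g (y₁.map a) := overMap_isHomLift y₁ a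
        exact isHomLift_of_map (IsHomLift.domain_eq 𝒴.p g (y₁.map a)) rfl
          ((IsHomLift.fac' 𝒴.p g (y₁.map a)).trans (by simp [g]))
      · rw [← Category.assoc, ← Category.assoc, ← y₁.toFunctor.map_comp, ← (isRes_res h.1 g x).2 a rfl,
          Category.assoc, ← y₂.toFunctor.map_comp]
        have hrel : ∀ z : Pt y₁ y₂ V, z = res h.1 g x' → ∀ b : (Over.mk z.t : Over U) ⟶ Over.mk x'.t, b.left = g →
            y₁.map b ≫ x'.m = z.m ≫ y₂.map b := by
          rintro z rfl b hb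
          exact ((isRes_res h.1 g x').2 b hb).symm
        exact hrel _ (e g hf) (a ≫ k)
          ((congrArg (g ≫ ·) hk).trans (Category.comp_id g))
  · have hc : ∀ ⦃V' V : Over S⦄ (l : V' ⟶ V) (f : V ⟶ W) (hf : T f),
        IsRes l (fam (l ≫ f) (T.downward_closed hf l)) (fam f hf) := fun V' V l f hf => by
      have e : fam (l ≫ f) (T.downward_closed hf l) = res h.1 l (fam f hf) :=
        (Presieve.compatible_iff_sieveCompatible fam).1 hfam f l hf
      rw [e]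
      exact isRes_res h.1 l _
    obtain ⟨tm, htm, -⟩ := SheafGlue.existsUnique_glue (Z := (yon S).obj U) hT (fun V f hf => (yon S).map (fam f hf).t)
      fun V' V l f hf => by rw [(hc l f hf).1, Functor.map_comp]
    obtain ⟨t, rfl⟩ := (yon S).map_surjective tm
    have ht : ∀ ⦃V : Over S⦄ (f : V ⟶ W) (hf : T f), (fam f hf).t = f ≫ t := fun V f hf =>
      (yon S).map_injective (by rw [Functor.map_comp]; exact (htm f hf).symm)
    let x := y₁.obj (Over.mk t)
    have hW : 𝒴.p.obj x = W := y₁.w_obj _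
    have hW' : 𝒴.p.obj (y₂.obj (Over.mk t)) = W := y₂.w_obj _
    let k : 𝒴.p.obj x ⟶ 𝒴.p.obj (y₂.obj (Over.mk t)) := eqToHom (hW.trans hW'.symm)
    let F : ∀ {y : 𝒴.obj} (a : y ⟶ x), 𝒴.p.obj y ⟶ W := fun a => 𝒴.p.map a ≫ eqToHom hW
    let G : ∀ {y : 𝒴.obj} (a : y ⟶ x) (ha : T.pullback (eqToHom hW) (𝒴.p.map a)),
        (Over.mk (fam (F a) ha).t : Over U) ⟶ Over.mk t := fun a ha => Over.homMk (F a) (ht _ ha).symm
    have hG : ∀ (z : FibCat.overCat U ⥤ᵇ 𝒴) {y : 𝒴.obj} (a : y ⟶ x) (ha : T.pullback (eqToHom hW) (𝒴.p.map a)),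
        𝒴.p.map (z.map (G a ha)) = eqToHom (z.w_obj _) ≫ F a ≫ eqToHom (z.w_obj _).symm := fun z y a ha =>
      w_map z (G a ha)
    have hj : ∀ {y : 𝒴.obj} (a : y ⟶ x) (ha : T.pullback (eqToHom hW) (𝒴.p.map a)),
        ∃ j : y ⟶ y₁.obj (Over.mk (fam (F a) ha).t), 𝒴.p.map j = eqToHom (y₁.w_obj (Over.mk (fam (F a) ha).t)).symm ∧
          j ≫ y₁.map (G a ha) = a := fun {y} a ha =>
      exists_factor h.1 _ a _ (by rw [hG y₁ a ha]; simp [F])
    choose j hj1 hj2 using @hj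
    let γ : ∀ {y : 𝒴.obj} (a : y ⟶ x), T.pullback (eqToHom hW) (𝒴.p.map a) → (y ⟶ y₂.obj (Over.mk t)) :=
      fun a ha => j a ha ≫ (fam (F a) ha).m ≫ y₂.map (G a ha)
    obtain ⟨φ, hφ1, hφ2⟩ := exists_glue h k (T.pullback (eqToHom hW)) ((J S).pullback_stable _ hT) γ
      (fun {y} a ha => by
        have := (fam (F a) ha).lift
        show 𝒴.p.map (_ ≫ _ ≫ _) = _
        rw [Functor.map_comp, Functor.map_comp, hj1, hG y₂ a ha,
          IsHomLift.fac' 𝒴.p (𝟙 (𝒴.p.obj y)) (fam (F a) ha).m]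
        simp [F, k])
      (fun {y' y} m a ha ha' => by
        have hl : F (m ≫ a) = 𝒴.p.map m ≫ F a := by simp [F]
        have hrel : ∀ (g : 𝒴.p.obj y' ⟶ W) (hg : T g), g = 𝒴.p.map m ≫ F a → IsRes (𝒴.p.map m) (fam g hg) (fam (F a) ha) := by
          rintro g hg rfl
          exact hc _ _ ha
        have hr := hrel _ ha' hl
        let b : (Over.mk (fam (F (m ≫ a)) ha').t : Over U) ⟶ Over.mk (fam (F a) ha).t :=
          Over.homMk (𝒴.p.map m) hr.1.symm
        have hb : b ≫ G a ha = G (m ≫ a) ha' := Over.OverMorphism.ext hl.symm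
        show j (m ≫ a) ha' ≫ _ ≫ _ = m ≫ j a ha ≫ _ ≫ _
        rw [← hb, y₂.toFunctor.map_comp, ← Category.assoc (fam (F (m ≫ a)) ha').m, hr.2 b rfl]
        have e : j (m ≫ a) ha' ≫ y₁.map b = m ≫ j a ha := by
          refine hom_ext_cart h.1 (y₁.map (G a ha)) ?_ ?_
          · rw [Functor.map_comp, Functor.map_comp, hj1, hj1, w_map y₁ b,
              show (FibCat.overCat U).p.map b = 𝒴.p.map m from rfl]
            simp
          · rw [Category.assoc, ← y₁.toFunctor.map_comp, hb, hj2, Category.assoc, hj2]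
        simp only [Category.assoc, reassoc_of% e])
    have hlift : 𝒴.p.IsHomLift (𝟙 W) φ := isHomLift_of_map hW hW' (by rw [hφ1]; simp [k])
    refine ⟨⟨t, φ, hlift⟩, fun V f hf => res_eq h.1 ⟨ht f hf, fun b hb => ?_⟩⟩
    show (fam f hf).m ≫ y₂.map b = y₁.map b ≫ φ
    have hpb : 𝒴.p.map (y₁.map b) ≫ eqToHom hW = eqToHom (y₁.w_obj (Over.mk (fam f hf).t)) ≫ f := by
      rw [w_map y₁ b, show (FibCat.overCat U).p.map b = f from hb]; simp
    have hmem : T.pullback (eqToHom hW) (𝒴.p.map (y₁.map b)) := by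
      show T (𝒴.p.map (y₁.map b) ≫ eqToHom hW)
      rw [hpb]; exact T.downward_closed hf _
    rw [hφ2 (y₁.map b) hmem]
    have hrel : ∀ (g : 𝒴.p.obj (y₁.obj (Over.mk (fam f hf).t)) ⟶ W) (hg : T g),
        g = eqToHom (y₁.w_obj (Over.mk (fam f hf).t)) ≫ f →
          IsRes (eqToHom (y₁.w_obj (Over.mk (fam f hf).t))) (fam g hg) (fam f hf) := by
      rintro g hg rfl
      exact hc _ _ hf
    have hr := hrel _ hmem hpb
    let c : (Over.mk (fam (F (y₁.map b)) hmem).t : Over U) ⟶ Over.mk (fam f hf).t :=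
      Over.homMk (eqToHom (y₁.w_obj (Over.mk (fam f hf).t))) hr.1.symm
    have hcb : c ≫ b = G (y₁.map b) hmem := Over.OverMorphism.ext ((congrArg (_ ≫ ·) hb).trans hpb.symm)
    have e : j (y₁.map b) hmem ≫ y₁.map c = 𝟙 _ := by
      refine hom_ext_cart h.1 (y₁.map b) ?_ ?_
      · rw [Functor.map_comp, hj1, w_map y₁ c, show (FibCat.overCat U).p.map c = eqToHom (y₁.w_obj (Over.mk (fam f hf).t)) from rfl]
        refine Eq.trans ?_ (𝒴.p.map_id _).symm
        simp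
      · rw [Category.assoc, ← y₁.toFunctor.map_comp, hcb, hj2, Category.id_comp]
    show _ = j (y₁.map b) hmem ≫ _ ≫ _
    rw [← hcb, y₂.toFunctor.map_comp, ← Category.assoc (fam (F (y₁.map b)) hmem).m, hr.2 c rfl, Category.assoc,
      reassoc_of% e]

variable (y₁ y₂) in
/-- The sheaf of isomorphisms. -/
noncomputable def isom : Sp S := ⟨presheaf y₁ y₂ h.1, isSheaf_presheaf h⟩

variable (y₁ y₂) in
/-- The projection of the sheaf of isomorphisms. -/
noncomputable def isomπ : isom y₁ y₂ h ⟶ (yon S).obj U where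
  hom :=
    { app := fun W => TypeCat.ofHom fun x : Pt y₁ y₂ W.unop => ⟨x.t⟩
      naturality := fun W V g => by
        ext x
        exact congrArg ULift.up (isRes_res h.1 g.unop x).1 }

/-- A morphism of points gives a restriction. -/
theorem isRes_of_hom {p p' : (AlgSt.ofSp (isom y₁ y₂ h)).obj} (f : p ⟶ p') :
    IsRes f.hom (p.sec : Pt y₁ y₂ p.base) (p'.sec : Pt y₁ y₂ p'.base) := by
  have e : res h.1 f.hom (p'.sec : Pt y₁ y₂ p'.base) = p.sec := f.map_sec
  rw [← e]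
  exact isRes_res h.1 _ _

end

end Groth.Agent.WNA49.IsomSheaf
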