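import Groth.Agent.WNA49.ChartDesc
import Groth.Agent.WNA49.IsomU
import Groth.Agent.AlgStLib.OverSpace
import Groth.Agent.AlgSpDec.AffineRep
import Groth.Agent.GerbFlat.Section
import Groth.Agent.WNA49.Basic

/-!
# The scheme of isomorphisms between points of a finite locally free chart
-/

set_option autoImplicit false
set_option backward.isDefEq.respectTransparency false
set_option backward.isDefEq.respectTransparency.types false

universe u

open CategoryTheory CategoryTheory.Functor CategoryTheory.Limits MonoidalCategory CartesianMonoidalCategory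
  AlgebraicGeometry Opposite AlgSp
open Groth.Agent.FibBase Groth.Agent.AlgSpLib Groth.Agent.AlgStLib Groth.Agent.GerbLib

namespace Groth.Agent.WNA49

variable {S : Scheme.{u}} {𝒳 : AlgSt.Cat S} {U : Over S} (x : FibCat.overCat U ⥤ᵇ 𝒳)

/-- An isomorphism between two points of the chart. -/
structure Arr (W : Over S) : Type (u + 1) where
  a : W ⟶ U
  b : W ⟶ U
  m : x.obj (Over.mk a) ⟶ x.obj (Over.mk b)
  lift : 𝒳.p.IsHomLift (𝟙 W) m

variable {x}

theorem Arr.ext' {W : Over S} {r r' : Arr x W} (ha : r.a = r'.a) (hb : r.b = r'.b)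
    (hm : ∀ (h₁ : (Over.mk r.a : Over U) ⟶ Over.mk r'.a) (h₂ : (Over.mk r.b : Over U) ⟶ Over.mk r'.b),
      h₁.left = 𝟙 W → h₂.left = 𝟙 W → r.m ≫ x.map h₂ = x.map h₁ ≫ r'.m) : r = r' := by
  obtain ⟨a, b, m, _⟩ := r
  obtain ⟨a', b', m', _⟩ := r'
  obtain rfl : a = a' := ha
  obtain rfl : b = b' := hb
  have h := hm (𝟙 _) (𝟙 _) rfl rfl
  rw [x.toFunctor.map_id, x.toFunctor.map_id, Category.id_comp, Category.comp_id] at h
  subst h
  rfl

/-- Restriction of isomorphisms between points. -/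
def Arr.IsRes {W W' : Over S} (g : W' ⟶ W) (r' : Arr x W') (r : Arr x W) : Prop :=
  r'.a = g ≫ r.a ∧ r'.b = g ≫ r.b ∧
    ∀ (h₁ : (Over.mk r'.a : Over U) ⟶ Over.mk r.a) (h₂ : (Over.mk r'.b : Over U) ⟶ Over.mk r.b),
      h₁.left = g → h₂.left = g → r'.m ≫ x.map h₂ = x.map h₁ ≫ r.m

/-- The morphism between equal points. -/
def ofEq {W : Over S} {a b : W ⟶ U} (h : a = b) : (Over.mk a : Over U) ⟶ Over.mk b :=
  Over.homMk (𝟙 W) ((Category.id_comp _).trans h.symm)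

theorem ofEq_lift {W : Over S} {a b : W ⟶ U} (h : a = b) : 𝒳.p.IsHomLift (𝟙 W) (x.map (ofEq h)) :=
  overMap_isHomLift x (ofEq h)

/-- Composition of isomorphisms between points. -/
def Arr.comp {W : Over S} (r q : Arr x W) (h : r.b = q.a) : Arr x W where
  a := r.a
  b := q.b
  m := r.m ≫ x.map (ofEq h) ≫ q.m
  lift :=
    have := r.lift
    have := q.lift
    have := ofEq_lift (x := x) h
    inferInstance

variable (x) in
/-- The identity of a point. -/
def Arr.one {W : Over S} (a : W ⟶ U) : Arr x W := ⟨a, a, 𝟙 _, IsHomLift.id (x.w_obj (Over.mk a))⟩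

theorem Arr.isRes_one {W W' : Over S} (g : W' ⟶ W) (a : W ⟶ U) :
    Arr.IsRes g (Arr.one x (g ≫ a)) (Arr.one x a) := by
  refine ⟨rfl, rfl, fun h₁ h₂ e₁ e₂ => ?_⟩
  obtain rfl : h₁ = h₂ := Over.OverMorphism.ext (e₁.trans e₂.symm)
  show 𝟙 _ ≫ x.map h₁ = x.map h₁ ≫ 𝟙 _
  rw [Category.id_comp, Category.comp_id]

theorem Arr.isRes_comp {W W' : Over S} {g : W' ⟶ W} {r q : Arr x W} {r' q' : Arr x W'} (hr : Arr.IsRes g r' r)
    (hq : Arr.IsRes g q' q) (h : r.b = q.a) (h' : r'.b = q'.a) : Arr.IsRes g (r'.comp q' h') (r.comp q h) := by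
  refine ⟨hr.1, hq.2.1, fun h₁ h₂ e₁ e₂ => ?_⟩
  let k : (Over.mk r'.b : Over U) ⟶ Over.mk r.b := Over.homMk g hr.2.1.symm
  let l : (Over.mk q'.a : Over U) ⟶ Over.mk q.a := Over.homMk g hq.1.symm
  have hk : k ≫ ofEq h = ofEq h' ≫ l := Over.OverMorphism.ext ((Category.comp_id g).trans (Category.id_comp g).symm)
  show (r'.m ≫ x.map (ofEq h') ≫ q'.m) ≫ x.map h₂ = x.map h₁ ≫ r.m ≫ x.map (ofEq h) ≫ q.m
  rw [Category.assoc, Category.assoc, hq.2.2 l h₂ rfl e₂, ← Category.assoc (x.map (ofEq h')), ← x.toFunctor.map_comp,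
    ← hk, x.toFunctor.map_comp, Category.assoc, ← Category.assoc r'.m, hr.2.2 h₁ k e₁ rfl, Category.assoc]

variable (h𝒳 : FibCat.IsFibGrpd 𝒳.p)
include h𝒳

theorem Arr.res_unique {W W' : Over S} {g : W' ⟶ W} {r : Arr x W} {r₁ r₂ : Arr x W'} (h₁ : Arr.IsRes g r₁ r)
    (h₂ : Arr.IsRes g r₂ r) : r₁ = r₂ := by
  refine Arr.ext' (h₁.1.trans h₂.1.symm) (h₁.2.1.trans h₂.2.1.symm) fun k₁ k₂ e₁ e₂ => ?_
  let l : (Over.mk r₂.b : Over U) ⟶ Over.mk r.b := Over.homMk g h₂.2.1.symm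
  have hl : 𝒳.p.IsHomLift g (x.map l) := overMap_isHomLift x l
  have := isSC (hp := h𝒳) g (x.map l)
  have := r₁.lift
  have := r₂.lift
  have : 𝒳.p.IsHomLift (𝟙 W') (x.map k₁) := e₁ ▸ overMap_isHomLift x k₁
  have : 𝒳.p.IsHomLift (𝟙 W') (x.map k₂) := e₂ ▸ overMap_isHomLift x k₂
  refine IsStronglyCartesian.ext 𝒳.p g (x.map l) (𝟙 W') ?_
  have e : (k₂ ≫ l).left = g := (congrArg (· ≫ g) e₂).trans (Category.id_comp g)
  let l₁ : (Over.mk r₂.a : Over U) ⟶ Over.mk r.a := Over.homMk g h₂.1.symm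
  rw [Category.assoc, Category.assoc, h₂.2.2 l₁ l rfl rfl, ← x.toFunctor.map_comp,
    h₁.2.2 (k₁ ≫ l₁) (k₂ ≫ l) ((congrArg (· ≫ g) e₁).trans (Category.id_comp g)) e, x.toFunctor.map_comp,
    Category.assoc]

theorem Arr.exists_inv {W : Over S} (r : Arr x W) :
    ∃ q : Arr x W, ∃ (h : r.b = q.a) (h' : q.b = r.a), r.comp q h = Arr.one x r.a ∧ q.comp r h' = Arr.one x r.b := by
  have := r.lift
  have : IsIso r.m := isIso_of_lift (hp := h𝒳) (𝟙 W) _
  have hl : 𝒳.p.IsHomLift (𝟙 W) (inv r.m) := by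
    have : 𝒳.p.IsHomLift (𝟙 W) (asIso r.m).hom := r.lift
    exact IsHomLift.lift_id_inv 𝒳.p W (asIso r.m)
  let q : Arr x W := ⟨r.b, r.a, inv r.m, hl⟩
  have hid : ∀ (a : W ⟶ U) (k : (Over.mk a : Over U) ⟶ Over.mk a), k.left = 𝟙 W → x.map k = 𝟙 _ := by
    intro a k hk
    rw [show k = 𝟙 _ from Over.OverMorphism.ext hk]
    exact x.toFunctor.map_id _
  refine ⟨q, rfl, rfl, Arr.ext' rfl rfl fun h₁ h₂ e₁ e₂ => ?_, Arr.ext' rfl rfl fun h₁ h₂ e₁ e₂ => ?_⟩
  · show (r.m ≫ x.map (ofEq rfl) ≫ inv r.m) ≫ x.map h₂ = x.map h₁ ≫ 𝟙 _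
    rw [hid _ h₁ e₁, hid _ h₂ e₂, hid _ (ofEq rfl) rfl]
    simp
    rfl
  · show (inv r.m ≫ x.map (ofEq rfl) ≫ r.m) ≫ x.map h₂ = x.map h₁ ≫ 𝟙 _
    rw [hid _ h₁ e₁, hid _ h₂ e₂, hid _ (ofEq rfl) rfl]
    simp
    rfl

theorem Arr.comp_assoc {W : Over S} (r q p : Arr x W) (h : r.b = q.a) (h' : q.b = p.a) :
    (r.comp q h).comp p h' = r.comp (q.comp p h') h := by
  refine Arr.ext' rfl rfl fun h₁ h₂ e₁ e₂ => ?_
  rw [show h₁ = 𝟙 _ from Over.OverMorphism.ext e₁, show h₂ = 𝟙 _ from Over.OverMorphism.ext e₂,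
    x.toFunctor.map_id, x.toFunctor.map_id, Category.comp_id, Category.id_comp]
  simp [Arr.comp]

theorem Arr.comp_one {W : Over S} (r : Arr x W) {a : W ⟶ U} (h : r.b = a) : r.comp (Arr.one x a) h = r := by
  subst h
  refine Arr.ext' rfl rfl fun h₁ h₂ e₁ e₂ => ?_
  show (r.m ≫ x.map (ofEq rfl) ≫ 𝟙 _) ≫ x.map h₂ = _
  rw [show h₁ = 𝟙 _ from Over.OverMorphism.ext e₁, show h₂ = 𝟙 _ from Over.OverMorphism.ext e₂,
    show ofEq (rfl : r.b = r.b) = 𝟙 _ from Over.OverMorphism.ext rfl,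
    x.toFunctor.map_id]
  simp
  exact (congrArg (r.m ≫ ·) (x.toFunctor.map_id _)).trans (Category.comp_id _)

theorem Arr.one_comp {W : Over S} (r : Arr x W) {a : W ⟶ U} (h : a = r.a) : (Arr.one x a).comp r h = r := by
  subst h
  refine Arr.ext' rfl rfl fun h₁ h₂ e₁ e₂ => ?_
  show (𝟙 _ ≫ x.map (ofEq rfl) ≫ r.m) ≫ x.map h₂ = _
  rw [show h₁ = 𝟙 _ from Over.OverMorphism.ext e₁, show h₂ = 𝟙 _ from Over.OverMorphism.ext e₂,
    show ofEq (rfl : r.a = r.a) = 𝟙 _ from Over.OverMorphism.ext rfl,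
    x.toFunctor.map_id]
  simp
  exact (congrArg (r.m ≫ ·) (x.toFunctor.map_id _)).trans (Category.comp_id _)

omit h𝒳

section Rep

variable (h : Stk.IsPrestack (J S) 𝒳)

variable (x) in
/-- The first point over a pair. -/
noncomputable abbrev y₁ : FibCat.overCat (U ⊗ U) ⥤ᵇ 𝒳 := BasedFunctor.comp (AlgSt.overMap (fst U U)) x

variable (x) in
/-- The second point over a pair. -/
noncomputable abbrev y₂ : FibCat.overCat (U ⊗ U) ⥤ᵇ 𝒳 := BasedFunctor.comp (AlgSt.overMap (snd U U)) x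

/-- The isomorphism underlying a point of the sheaf of isomorphisms. -/
noncomputable def ofPt {W : Over S} (p : IsomSheaf.Pt (y₁ x) (y₂ x) W) : Arr x W := ⟨p.t ≫ fst U U, p.t ≫ snd U U, p.m, p.lift⟩

theorem ofPt_bijective (W : Over S) : Function.Bijective (ofPt (x := x) (W := W)) := by
  constructor
  · rintro ⟨t, m, _⟩ ⟨t', m', _⟩ e
    obtain rfl : t = t' :=
      CartesianMonoidalCategory.hom_ext _ _ (congrArg Arr.a e) (congrArg Arr.b e)
    have hm : m = m' := eq_of_heq (Arr.mk.injEq _ _ _ _ _ _ _ _ ▸ e).2.2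
    subst hm
    rfl
  · rintro ⟨a, b, m, hm⟩
    obtain ⟨t, rfl, rfl⟩ : ∃ t : W ⟶ U ⊗ U, t ≫ fst U U = a ∧ t ≫ snd U U = b :=
      ⟨CartesianMonoidalCategory.lift a b, CartesianMonoidalCategory.lift_fst _ _,
        CartesianMonoidalCategory.lift_snd _ _⟩
    exact ⟨⟨t, m, hm⟩, rfl⟩

theorem isRes_ofPt {W W' : Over S} {g : W' ⟶ W} {p' : IsomSheaf.Pt (y₁ x) (y₂ x) W'}
    {p : IsomSheaf.Pt (y₁ x) (y₂ x) W} (hp : IsomSheaf.IsRes g p' p) : Arr.IsRes g (ofPt p') (ofPt p) := by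
  refine ⟨by show p'.t ≫ _ = g ≫ p.t ≫ _; rw [hp.1, Category.assoc],
    by show p'.t ≫ _ = g ≫ p.t ≫ _; rw [hp.1, Category.assoc], fun h₁ h₂ e₁ e₂ => ?_⟩
  let k : (Over.mk p'.t : Over (U ⊗ U)) ⟶ Over.mk p.t := Over.homMk g hp.1.symm
  obtain rfl : h₁ = (AlgSt.overMap (fst U U)).map k := Over.OverMorphism.ext e₁
  obtain rfl : h₂ = (AlgSt.overMap (snd U U)).map k := Over.OverMorphism.ext e₂
  exact hp.2 k rfl

variable (x) in
/-- The sheaf of isomorphisms between points of the chart. -/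
noncomputable def arrSheaf : Sp S := IsomSheaf.isom (y₁ x) (y₂ x) h

variable (x) in
/-- The first endpoint. -/
noncomputable def arrFst : arrSheaf x h ⟶ (yon S).obj U :=
  IsomSheaf.isomπ (y₁ x) (y₂ x) h ≫ (yon S).map (fst U U)

/-- The first projection of a point of the sheaf of isomorphisms. -/
theorem arrFst_app {W : Over S} (p : IsomSheaf.Pt (y₁ x) (y₂ x) W) :
    (arrFst x h).hom.app (op W) p = ⟨(ofPt p).a⟩ := rfl

variable (x) in
/-- The functor from isomorphisms to the self product of the chart. -/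
noncomputable def arrFun : AlgSt.ofSp (arrSheaf x h) ⥤ᵇ FibCat.fp x x where
  toFunctor :=
    { obj := fun p =>
        have := (p.sec : IsomSheaf.Pt (y₁ x) (y₂ x) p.base).lift
        have : IsIso (p.sec : IsomSheaf.Pt (y₁ x) (y₂ x) p.base).m := isIso_of_lift (hp := h.1) (𝟙 p.base) _
        ⟨⟨Over.mk ((p.sec : IsomSheaf.Pt (y₁ x) (y₂ x) p.base).t ≫ fst U U),
          Over.mk ((p.sec : IsomSheaf.Pt (y₁ x) (y₂ x) p.base).t ≫ snd U U),
          asIso (p.sec : IsomSheaf.Pt (y₁ x) (y₂ x) p.base).m⟩,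
          (p.sec : IsomSheaf.Pt (y₁ x) (y₂ x) p.base).lift⟩
      map := fun {p p'} f => ObjectProperty.homMk
        { fst := (AlgSt.overMap (fst U U)).map (Over.homMk f.hom (IsomSheaf.isRes_of_hom h f).1.symm :
            (Over.mk (p.sec : IsomSheaf.Pt (y₁ x) (y₂ x) p.base).t : Over (U ⊗ U)) ⟶
              Over.mk (p'.sec : IsomSheaf.Pt (y₁ x) (y₂ x) p'.base).t)
          snd := (AlgSt.overMap (snd U U)).map (Over.homMk f.hom (IsomSheaf.isRes_of_hom h f).1.symm :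
            (Over.mk (p.sec : IsomSheaf.Pt (y₁ x) (y₂ x) p.base).t : Over (U ⊗ U)) ⟶
              Over.mk (p'.sec : IsomSheaf.Pt (y₁ x) (y₂ x) p'.base).t)
          w := ((IsomSheaf.isRes_of_hom h f).2 _ rfl).symm }
      map_id := fun p => ObjectProperty.hom_ext _ (CategoricalPullback.hom_ext (Over.OverMorphism.ext rfl)
        (Over.OverMorphism.ext rfl))
      map_comp := fun f g => ObjectProperty.hom_ext _ (CategoricalPullback.hom_ext (Over.OverMorphism.ext rfl)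
        (Over.OverMorphism.ext rfl)) }
  w := rfl

theorem arrFun_isEquivOver : FibCat.IsEquivOver (arrFun x h) := by
  refine isEquivOver_of_exists_iso _ ⟨fun {p p'} μ => ?_⟩ ⟨fun {p p'} f g e => ?_⟩ fun θ => ?_
  · let g : p.base ⟶ p'.base := μ.hom.fst.left
    have hg : μ.hom.snd.left = g := by
      have h' := fp_isHomLift_snd' (F := x) (G := x) g μ
        (h := inferInstanceAs (((FibCat.fp x x).p).IsHomLift ((FibCat.fp x x).p.map μ) μ))
      have e := IsHomLift.fac' (FibCat.overCat U).p g μ.hom.snd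
      exact e.trans ((Category.id_comp _).trans (Category.comp_id _))
    let q := (p.sec : IsomSheaf.Pt (y₁ x) (y₂ x) p.base)
    let q' := (p'.sec : IsomSheaf.Pt (y₁ x) (y₂ x) p'.base)
    have w₁ : g ≫ q'.t ≫ fst U U = q.t ≫ fst U U := Over.w μ.hom.fst
    have w₂ : g ≫ q'.t ≫ snd U U = q.t ≫ snd U U := (congrArg (· ≫ q'.t ≫ snd U U) hg.symm).trans (Over.w μ.hom.snd)
    have hr : IsomSheaf.IsRes g q q' := by
      refine ⟨CartesianMonoidalCategory.hom_ext _ _ (w₁.symm.trans (Category.assoc _ _ _).symm)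
        (w₂.symm.trans (Category.assoc _ _ _).symm), fun k hk => ?_⟩
      have w := μ.hom.w
      rw [show μ.hom.fst = (AlgSt.overMap (fst U U)).map k from Over.OverMorphism.ext hk.symm,
        show μ.hom.snd = (AlgSt.overMap (snd U U)).map k from Over.OverMorphism.ext (hg.trans hk.symm)] at w
      exact w.symm
    exact ⟨⟨g, IsomSheaf.res_eq h.1 hr⟩, ObjectProperty.hom_ext _ (CategoricalPullback.hom_ext
      (Over.OverMorphism.ext rfl) (Over.OverMorphism.ext hg.symm))⟩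
  · exact Stk.EltObj.hom_ext (congrArg (fun t => t.hom.fst.left) e)
  · obtain ⟨⟨a, b, i⟩, hi⟩ := θ
    have hi' : 𝒳.p.IsHomLift (𝟙 a.left) i.hom := hi
    have hb : b.left = a.left := (x.w_obj b).symm.trans (IsHomLift.codomain_eq 𝒳.p (𝟙 a.left) i.hom)
    obtain ⟨W, ra, rfl⟩ := a.mk_surjective
    obtain ⟨W', rb, rfl⟩ := b.mk_surjective
    obtain rfl : W' = W := hb
    let t : W' ⟶ U ⊗ U := CartesianMonoidalCategory.lift ra rb
    let e₁ : (Over.mk (t ≫ fst U U) : Over U) ≅ Over.mk ra :=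
      Over.isoMk (Iso.refl W') ((Category.id_comp _).trans (CartesianMonoidalCategory.lift_fst ra rb).symm)
    let e₂ : (Over.mk (t ≫ snd U U) : Over U) ≅ Over.mk rb :=
      Over.isoMk (Iso.refl W') ((Category.id_comp _).trans (CartesianMonoidalCategory.lift_snd ra rb).symm)
    have hm : 𝒳.p.IsHomLift (𝟙 W') (x.map e₁.hom ≫ i.hom ≫ x.map e₂.inv) := by
      have : 𝒳.p.IsHomLift (𝟙 W') (x.map e₁.hom) := overMap_isHomLift x e₁.hom
      have : 𝒳.p.IsHomLift (𝟙 W') (x.map e₂.inv) := overMap_isHomLift x e₂.inv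
      have : 𝒳.p.IsHomLift (𝟙 W') i.hom := hi
      infer_instance
    refine ⟨⟨W', (⟨t, x.map e₁.hom ≫ i.hom ≫ x.map e₂.inv, hm⟩ : IsomSheaf.Pt (y₁ x) (y₂ x) W')⟩,
      fpIsoMk (F := x) (G := x) e₁ e₂ ?_, ?_⟩
    · show x.map e₁.hom ≫ i.hom = (x.map e₁.hom ≫ i.hom ≫ x.map e₂.inv) ≫ x.map e₂.hom
      rw [Category.assoc, Category.assoc, ← x.toFunctor.map_comp, e₂.inv_hom_id, x.toFunctor.map_id, Category.comp_id]
    · exact fp_isHomLift (F := x) (G := x) (𝟙 W') _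
        (h := IsHomLift.map (Over.forget U) e₁.hom)

theorem spMapOfOver_arrFun :
    AlgSt.spMapOfOver (BasedFunctor.comp (arrFun x h) (FibCat.fpFst x x)) = arrFst x h := by
  refine ObjectProperty.hom_ext _ (NatTrans.ext (funext fun W => ?_))
  ext p
  exact ULift.ext _ _ (Category.id_comp _)

include h in
/-- Representing scheme of the isomorphisms between points of a finite locally free chart. -/
theorem exists_arr_scheme
    (hx : AlgSt.RepByAlgSpWith (IsSurjectiveMor ⊓ LocP @Flat ⊓ IsFiniteMor ⊓ LocP @LocallyOfFinitePresentation) x) :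
    ∃ (R : Over S) (e : ∀ W : Over S, (W ⟶ R) ≃ Arr x W) (t : R ⟶ U),
      IsFinite t.left ∧ Flat t.left ∧ LocallyOfFinitePresentation t.left ∧ Surjective t.left ∧
      (∀ (W : Over S) (f : W ⟶ R), (e W f).a = f ≫ t) ∧
      (∀ (W W' : Over S) (g : W' ⟶ W) (f : W ⟶ R), Arr.IsRes g (e W' (g ≫ f)) (e W f)) := by
  have key : ∀ {P : MorphismProperty (Sp S)}, StableBC P → AlgSt.RepByAlgSpWith P x →
      IsAlgSpace (arrSheaf x h) ∧ P (arrFst x h) := fun {P} hP hx' => by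
    rw [← spMapOfOver_arrFun]
    exact RepOver.property_of_stableBC hP (hx' U x) (arrFun x h) (arrFun_isEquivOver h)
  obtain ⟨hI, hfin'⟩ := key stableBC_isFiniteMor (repByAlgSpWith_mono (fun _ _ _ h => h.1.2) hx)
  have hfin : RepWith @IsFinite (arrFst x h) := AlgSpDec.isFiniteMor_iff_repWith.1 hfin'
  have hflat : RepWith @Flat (arrFst x h) := repWith_of_locP (IsAlgSpace.yon_obj U) hfin.rep
    (key stableBC_locP (repByAlgSpWith_mono (fun _ _ _ h => h.1.1.2) hx)).2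
  have hlfp : RepWith @LocallyOfFinitePresentation (arrFst x h) := repWith_of_locP (IsAlgSpace.yon_obj U) hfin.rep
    (key stableBC_locP (repByAlgSpWith_mono (fun _ _ _ h => h.2) hx)).2
  have hsurj : RepWith @Surjective (arrFst x h) := repWith_surjective_of_surjective hfin.rep
    (key stableBC_isSurjectiveMor (repByAlgSpWith_mono (fun _ _ _ h => h.1.1.1) hx)).2
  let r := hfin.rep
  let R := r.pullback (𝟙 ((yon S).obj U))
  let t : R ⟶ U := r.snd (𝟙 _)
  let j : (yon S).obj R ⟶ arrSheaf x h := r.fst (𝟙 _)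
  have sq : IsPullback j ((yon S).map t) (arrFst x h) (𝟙 _) := r.isPullback _
  have : IsIso j := sq.isIso_fst_of_isIso
  have hbij : ∀ W : Over S, Function.Bijective
      (fun f : W ⟶ R => (ofPt (j.hom.app (op W) (⟨f⟩ : ((yon S).obj R).obj.obj (op W))) : Arr x W)) := fun W => by
    have : IsIso j.hom := (ObjectProperty.isIso_hom_iff j).2 inferInstance
    have hj := (isIso_iff_bijective (j.hom.app (op W))).1 inferInstance
    exact (ofPt_bijective W).comp (hj.comp ⟨fun a b e => congrArg ULift.down e, fun a => ⟨a.down, rfl⟩⟩)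
  refine ⟨R, fun W => Equiv.ofBijective _ (hbij W), t, hfin.property_snd _, hflat.2 _ _ _ sq, hlfp.2 _ _ _ sq,
    hsurj.2 _ _ _ sq, fun W f => ?_, fun W W' g f => ?_⟩
  · have e := congrArg (fun k : (yon S).obj R ⟶ (yon S).obj U =>
      (k.hom.app (op W) (⟨f⟩ : ((yon S).obj R).obj.obj (op W))).down) sq.w
    exact e
  · refine isRes_ofPt ?_
    have e : (arrSheaf x h).obj.map g.op (j.hom.app (op W) (⟨f⟩ : ((yon S).obj R).obj.obj (op W))) =
        j.hom.app (op W') (⟨g ≫ f⟩ : ((yon S).obj R).obj.obj (op W')) :=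
      (NatTrans.naturality_apply j.hom g.op _).symm
    rw [← e]
    exact IsomSheaf.isRes_res h.1 _ _

end Rep

end Groth.Agent.WNA49
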