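import Groth.Agent.WNA49.ChartArr
import Groth.Agent.AlgStLib.FieldImage

/-!
# Base change of a map from a stack to a scheme, described on charts
-/

set_option autoImplicit false
set_option backward.isDefEq.respectTransparency false
set_option backward.isDefEq.respectTransparency.types false

universe u

open CategoryTheory CategoryTheory.Functor CategoryTheory.Limits AlgebraicGeometry Opposite AlgSp
open Groth.Agent.FibBase Groth.Agent.AlgSpLib Groth.Agent.AlgStLib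

namespace Groth.Agent.WNA49

variable {S : Scheme.{u}} {𝒳 : AlgSt.Cat S} {U M T XT : Over S} {x : FibCat.overCat U ⥤ᵇ 𝒳}
  {π : 𝒳 ⥤ᵇ AlgSt.ofSch M} {q : U ⟶ M} (hq : mapOfOver (BasedFunctor.comp x π) = (yon S).map q)
  {g : T ⟶ M} (a : XT ⟶ T) (b : XT ⟶ U) (w : a ≫ g = b ≫ q)

include hq in
/-- The section of the image of a point of the chart. -/
theorem secAt_point {W : Over S} (z : W ⟶ U) :
    eqToHom (x.w_obj (Over.mk z)).symm ≫ (secAt π (x.obj (Over.mk z))).down = z ≫ q := by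
  have h := mapOfOver_app (x := x) π z
  rw [hq] at h
  exact (congrArg ULift.down h).symm

/-- The chart of a base change. -/
noncomputable def bcChart : FibCat.overCat XT ⥤ᵇ FibCat.fp (AlgSt.ofSpMap ((yon S).map g)) π :=
  FibCat.fpLift (BasedFunctor.comp (AlgSt.overMap a) (AlgSt.ofOverCat T))
    (BasedFunctor.comp (AlgSt.overMap b) x)
    (pshIso _ _ fun u => by
      obtain ⟨W, v, rfl⟩ := u.mk_surjective
      have h1 : secAt (BasedFunctor.comp (BasedFunctor.comp (AlgSt.overMap a) (AlgSt.ofOverCat T))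
          (AlgSt.ofSpMap ((yon S).map g))) (Over.mk v : Over XT) = ⟨(v ≫ a) ≫ g⟩ :=
        res_id ((yon S).obj M).obj _ rfl _
      have h2 : secAt (BasedFunctor.comp (BasedFunctor.comp (AlgSt.overMap b) x) π) (Over.mk v : Over XT) =
          ⟨(v ≫ b) ≫ q⟩ := by
        rw [CatModLocal.secAt_precomp]
        exact ULift.ext _ _ (secAt_point hq (v ≫ b))
      rw [h1, h2, Category.assoc, Category.assoc, w])

theorem mapOfOver_bcChart :
    mapOfOver (BasedFunctor.comp (bcChart hq a b w) (FibCat.fpFst (AlgSt.ofSpMap ((yon S).map g)) π)) =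
      (yon S).map a := by
  refine ObjectProperty.hom_ext _ ?_
  ext W ⟨v⟩
  exact res_id ((yon S).obj T).obj _ rfl _

/-- A morphism out of a point of the chart of the base change. -/
theorem exists_bcHom {W : Over S} (v : W ⟶ XT) (o : (FibCat.fp (AlgSt.ofSpMap ((yon S).map g)) π).obj)
    (r : W ⟶ o.obj.fst.base) (hr : r ≫ o.obj.fst.sec.down = v ≫ a) (k : x.obj (Over.mk (v ≫ b)) ⟶ o.obj.snd)
    (hk : 𝒳.p.map k = eqToHom (x.w_obj (Over.mk (v ≫ b))) ≫ r ≫
      eqToHom ((FibCat.fpSnd (AlgSt.ofSpMap ((yon S).map g)) π).w_obj o).symm) :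
    ∃ φ : (bcChart hq a b w).obj (Over.mk v) ⟶ o,
      (FibCat.fp (AlgSt.ofSpMap ((yon S).map g)) π).p.IsHomLift r φ := by
  let c := (bcChart hq a b w).obj (Over.mk v)
  let h₁ : c.obj.fst ⟶ o.obj.fst := ⟨r, ULift.ext _ _ hr⟩
  let φ : c ⟶ o := ObjectProperty.homMk ⟨h₁, k, by
    refine Stk.EltObj.hom_ext ?_
    have e1 := map_eq_of_isHomLift_id (p := (AlgSt.ofSch M).p) (S := o.obj.fst.base) o.property
    have e2 := map_eq_of_isHomLift_id (p := (AlgSt.ofSch M).p) (S := c.obj.fst.base) c.property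
    have e3 : (π.map k).hom = eqToHom (π.w_obj _) ≫ 𝒳.p.map k ≫ eqToHom (π.w_obj _).symm :=
      Functor.congr_hom π.w k
    show r ≫ o.obj.iso.hom.hom = c.obj.iso.hom.hom ≫ (π.map k).hom
    rw [show o.obj.iso.hom.hom = _ from e1, show c.obj.iso.hom.hom = _ from e2, e3, hk]
    simp⟩
  exact ⟨φ, IsHomLift.map (FibCat.fp (AlgSt.ofSpMap ((yon S).map g)) π).p φ⟩

theorem sec_fst (o : (FibCat.fp (AlgSt.ofSpMap ((yon S).map g)) π).obj) :
    o.obj.fst.sec.down ≫ g =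
      eqToHom ((FibCat.fpSnd (AlgSt.ofSpMap ((yon S).map g)) π).w_obj o).symm ≫ (secAt π o.obj.snd).down := by
  have h1 := secAt_eq_of_iso (FibCat.fpIso (AlgSt.ofSpMap ((yon S).map g)) π) o
  have h2 : secAt (BasedFunctor.comp (FibCat.fpFst (AlgSt.ofSpMap ((yon S).map g)) π) (AlgSt.ofSpMap ((yon S).map g))) o =
      ⟨o.obj.fst.sec.down ≫ g⟩ := res_id ((yon S).obj M).obj _ rfl _
  rw [CatModLocal.secAt_precomp (FibCat.fpSnd (AlgSt.ofSpMap ((yon S).map g)) π) π] at h1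
  exact congrArg ULift.down (h2.symm.trans h1)

variable (h𝒳 : FibCat.IsFibGrpd 𝒳.p) (hx : Gerb.LocSurjObj (J S) x)
  (hlift : ∀ {W : Over S} (v : W ⟶ T) (z : W ⟶ U), v ≫ g = z ≫ q → ∃ v' : W ⟶ XT, v' ≫ a = v ∧ v' ≫ b = z)
include h𝒳 hx hlift

theorem locSurjObj_bcChart : Gerb.LocSurjObj (J S) (bcChart hq a b w) := by
  intro o
  let hw := (FibCat.fpSnd (AlgSt.ofSpMap ((yon S).map g)) π).w_obj o
  obtain ⟨R, hR, hloc⟩ := exists_local h𝒳 hx (z := o.obj.snd)
  refine ⟨R.pullback (eqToHom hw.symm), (J S).pullback_stable _ hR, fun W f hf => ?_⟩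
  obtain ⟨z, m, hm⟩ := hloc (f ≫ eqToHom hw.symm) hf
  have hpm := IsHomLift.fac' 𝒳.p (f ≫ eqToHom hw.symm) m
  have hv : (f ≫ o.obj.fst.sec.down) ≫ g = z ≫ q := by
    have hs : 𝒳.p.map m ≫ (secAt π o.obj.snd).down = (secAt π (x.obj (Over.mk z))).down :=
      congrArg ULift.down (secAt_map π m)
    rw [Category.assoc, sec_fst o, ← secAt_point hq z, ← hs, hpm]
    simp
  obtain ⟨v', hva, hvb⟩ := hlift _ z hv
  let k : x.obj (Over.mk (v' ≫ b)) ⟶ o.obj.snd := x.map (ofEq hvb) ≫ m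
  obtain ⟨φ, hφ⟩ := exists_bcHom hq a b w v' o f hva.symm k (by
    show 𝒳.p.map (x.map (ofEq hvb) ≫ m) = _
    have := ofEq_lift (x := x) hvb
    rw [Functor.map_comp, hpm, IsHomLift.fac' 𝒳.p (𝟙 W) (x.map (ofEq hvb))]
    simp)
  exact ⟨Over.mk v', φ, hφ⟩

omit hlift hx in
/-- Invariant maps on the chart of the base change respect isomorphisms. -/
theorem isInv_bcChart_apply {N : Sp S} {h : (yon S).obj XT ⟶ N} (hinv : IsInv (bcChart hq a b w) h) {W : Over S}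
    (v v' : W ⟶ XT) (hv : v ≫ a = v' ≫ a) (m : x.obj (Over.mk (v ≫ b)) ⟶ x.obj (Over.mk (v' ≫ b)))
    (hm : 𝒳.p.IsHomLift (𝟙 W) m) : h.hom.app (op W) ⟨v⟩ = h.hom.app (op W) ⟨v'⟩ := by
  obtain ⟨φ, hφ⟩ := exists_bcHom hq a b w v ((bcChart hq a b w).obj (Over.mk v')) (𝟙 W)
    ((Category.id_comp _).trans hv.symm) m (IsHomLift.fac' 𝒳.p (𝟙 W) m)
  exact hinv W v v' φ hφ

include hq w in
/-- A base change is a categorical moduli space if invariant maps on its chart factor uniquely. -/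
theorem isCatModuli_bc
    (H : ∀ (N : Sp S), IsAlgSpace N → ∀ h : (yon S).obj XT ⟶ N,
      (∀ {W : Over S} (v v' : W ⟶ XT), v ≫ a = v' ≫ a →
        ∀ m : x.obj (Over.mk (v ≫ b)) ⟶ x.obj (Over.mk (v' ≫ b)), 𝒳.p.IsHomLift (𝟙 W) m →
          h.hom.app (op W) ⟨v⟩ = h.hom.app (op W) ⟨v'⟩) →
      ∃! χ : (yon S).obj T ⟶ N, (yon S).map a ≫ χ = h) :
    AlgSt.IsCatModuli (FibCat.fpFst (AlgSt.ofSpMap ((yon S).map g)) π) := by
  refine isCatModuli_of_chart (fp_isFibGrpd (Stk.isFibGrpd_ofPsh _) h𝒳 (Stk.isFibGrpd_ofPsh _))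
    (locSurjObj_bcChart hq a b w h𝒳 hx hlift) (IsAlgSpace.yon_obj _) _ fun N hN h hinv => ?_
  simp only [mapOfOver_bcChart]
  exact H N hN h fun v v' hv m hm => isInv_bcChart_apply hq a b w h𝒳 hinv v v' hv m hm

end Groth.Agent.WNA49
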