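import Groth.Agent.AlgStLib.LocSurjObj
import Groth.Agent.AlgStLib.OfSp
import Groth.Agent.AlgStLib.CatModuliLocal
import Groth.Agent.GerbLib.Glue
import Groth.Prelude.Def_StCoarse

/-!
# Functors from a stack to a sheaf, described on a chart
-/

set_option autoImplicit false
set_option backward.isDefEq.respectTransparency false
set_option backward.isDefEq.respectTransparency.types false

universe u

open CategoryTheory CategoryTheory.Functor CategoryTheory.Limits AlgebraicGeometry Opposite AlgSp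
open Groth.Agent.FibBase Groth.Agent.AlgSpLib Groth.Agent.AlgStLib

namespace Groth.Agent.WNA49

variable {S : Scheme.{u}} {𝒳 : AlgSt.Cat S} {U : Over S} (x : FibCat.overCat U ⥤ᵇ 𝒳) {N M : Sp S}

/-- A map on a chart does not distinguish isomorphic points. -/
def IsInv (h : (yon S).obj U ⟶ N) : Prop :=
  ∀ (W : Over S) (a b : W ⟶ U) (m : x.obj (Over.mk a) ⟶ x.obj (Over.mk b)),
    𝒳.p.IsHomLift (𝟙 W) m → h.hom.app (op W) ⟨a⟩ = h.hom.app (op W) ⟨b⟩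

variable {x}

/-- The map on a chart of a functor to a sheaf, on points. -/
theorem mapOfOver_app (φ : 𝒳 ⥤ᵇ AlgSt.ofSp N) {W : Over S} (a : W ⟶ U) :
    (mapOfOver (BasedFunctor.comp x φ)).hom.app (op W) ⟨a⟩ =
      N.obj.map (eqToHom (x.w_obj (Over.mk a)).symm).op (secAt φ (x.obj (Over.mk a))) := by
  show secAt (BasedFunctor.comp (AlgSt.toOverCat U) (BasedFunctor.comp x φ)) ⟨W, ⟨a⟩⟩ = _
  rw [CatModLocal.secAt_precomp, CatModLocal.secAt_precomp]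
  exact res_id N.obj _ rfl _

theorem map_secAt_of_lift (φ : 𝒳 ⥤ᵇ AlgSt.ofSp N) {W : Over S} {a : W ⟶ U} {z : 𝒳.obj} {T : Over S}
    (hz : 𝒳.p.obj z = T) {f : W ⟶ T} (m : x.obj (Over.mk a) ⟶ z) (hm : 𝒳.p.IsHomLift f m) :
    N.obj.map f.op (N.obj.map (eqToHom hz.symm).op (secAt φ z)) =
      (mapOfOver (BasedFunctor.comp x φ)).hom.app (op W) ⟨a⟩ := by
  rw [mapOfOver_app, ← secAt_map φ m, IsHomLift.fac' 𝒳.p f m]
  exact (res_res N.obj _ _ _).trans (Eq.trans (res_congr N.obj (by simp) _) (res_res N.obj _ _ _).symm)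

theorem isInv_mapOfOver (φ : 𝒳 ⥤ᵇ AlgSt.ofSp N) : IsInv x (mapOfOver (BasedFunctor.comp x φ)) := by
  intro W a b m hm
  rw [← map_secAt_of_lift φ (x.w_obj (Over.mk b)) m hm, mapOfOver_app φ b]
  exact res_id N.obj _ rfl _

theorem mapOfOver_congr {φ ψ : 𝒳 ⥤ᵇ AlgSt.ofSp N} (e : φ ≅ ψ) :
    mapOfOver (BasedFunctor.comp x φ) = mapOfOver (BasedFunctor.comp x ψ) :=
  spHom_congr (whiskerLeftIso _ (whiskerLeftIso x e))

theorem mapOfOver_comp (φ : 𝒳 ⥤ᵇ AlgSt.ofSp M) (g : M ⟶ N) :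
    mapOfOver (BasedFunctor.comp x (BasedFunctor.comp φ (AlgSt.ofSpMap g))) =
      mapOfOver (BasedFunctor.comp x φ) ≫ g := by
  refine Eq.trans ?_ (congrArg (_ ≫ ·) (spHom_ofSpMap g))
  exact spHom_comp (BasedFunctor.comp (AlgSt.toOverCat U) (BasedFunctor.comp x φ)) (AlgSt.ofSpMap g)

variable (h𝒳 : FibCat.IsFibGrpd 𝒳.p) (hx : Gerb.LocSurjObj (J S) x)
include h𝒳 hx

/-- Every object is locally isomorphic to a point of the chart. -/
theorem exists_local {z : 𝒳.obj} : ∃ R : Sieve (𝒳.p.obj z), R ∈ J S (𝒳.p.obj z) ∧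
    ∀ ⦃V : Over S⦄ (f : V ⟶ 𝒳.p.obj z), R f →
      ∃ (a : V ⟶ U) (m : x.obj (Over.mk a) ⟶ z), 𝒳.p.IsHomLift f m := by
  obtain ⟨R, hR, h⟩ := hx z
  refine ⟨R, hR, fun V f hf => ?_⟩
  obtain ⟨y, m, hm⟩ := h f hf
  have hy : y.left = V := (x.w_obj y).symm.trans (IsHomLift.domain_eq 𝒳.p f m)
  subst hy
  let e : (Over.mk y.hom : Over U) ⟶ y := Over.homMk (𝟙 y.left) (Category.id_comp _)
  have he : 𝒳.p.IsHomLift (𝟙 y.left) (x.map e) := overMap_isHomLift x e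
  exact ⟨y.hom, x.map e ≫ m, IsHomLift.comp_lift_id_left' 𝒳.p y.left (x.map e) f m⟩

/-- Functors agreeing on a chart are isomorphic. -/
theorem nonempty_iso_of_mapOfOver_eq {φ ψ : 𝒳 ⥤ᵇ AlgSt.ofSp N}
    (h : mapOfOver (BasedFunctor.comp x φ) = mapOfOver (BasedFunctor.comp x ψ)) : Nonempty (φ ≅ ψ) := by
  refine ⟨pshIso _ _ fun z => ?_⟩
  obtain ⟨R, hR, hloc⟩ := exists_local h𝒳 hx (z := z)
  refine CatModLocal.ext_of_covering hR fun V f hf => ?_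
  obtain ⟨a, m, hm⟩ := hloc f hf
  have h1 := map_secAt_of_lift φ rfl m hm
  have h2 := map_secAt_of_lift ψ rfl m hm
  have e := fun (s : N.obj.obj (op (𝒳.p.obj z))) => res_id N.obj (eqToHom (rfl : 𝒳.p.obj z = 𝒳.p.obj z)) rfl s
  rw [e] at h1 h2
  rw [h1, h2, h]

/-- An invariant map on a chart comes from a functor. -/
theorem exists_desc {h : (yon S).obj U ⟶ N} (hinv : IsInv x h) :
    ∃ φ : 𝒳 ⥤ᵇ AlgSt.ofSp N, mapOfOver (BasedFunctor.comp x φ) = h := by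
  have nat : ∀ {V W : Over S} (g : V ⟶ W) (a : W ⟶ U),
      N.obj.map g.op (h.hom.app (op W) ⟨a⟩) = h.hom.app (op V) ⟨g ≫ a⟩ := fun g a =>
    (NatTrans.naturality_apply h.hom g.op _).symm
  have hext : ∀ {V : Over S} {z : 𝒳.obj} (f : V ⟶ 𝒳.p.obj z) (a b : V ⟶ U) (m : x.obj (Over.mk a) ⟶ z)
      (n : x.obj (Over.mk b) ⟶ z), 𝒳.p.IsHomLift f m → 𝒳.p.IsHomLift f n →
        h.hom.app (op V) ⟨a⟩ = h.hom.app (op V) ⟨b⟩ := by
    intro V z f a b m n hm hn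
    have := isSC (hp := h𝒳) f n
    exact hinv V a b (IsStronglyCartesian.map 𝒳.p f n (Category.id_comp f).symm m) inferInstance
  have key : ∀ z : 𝒳.obj, ∃! s : N.obj.obj (op (𝒳.p.obj z)),
      ∀ ⦃V : Over S⦄ (f : V ⟶ 𝒳.p.obj z) (a : V ⟶ U) (m : x.obj (Over.mk a) ⟶ z),
        𝒳.p.IsHomLift f m → N.obj.map f.op s = h.hom.app (op V) ⟨a⟩ := by
    intro z
    obtain ⟨R, hR, hloc⟩ := exists_local h𝒳 hx (z := z)
    choose a m hm using hloc
    let fam : Presieve.FamilyOfElements N.obj R.arrows := fun V f hf => h.hom.app (op V) ⟨a f hf⟩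
    have hlift : ∀ {V W : Over S} (f : W ⟶ 𝒳.p.obj z) (g : V ⟶ W) (b : W ⟶ U) (n : x.obj (Over.mk b) ⟶ z),
        𝒳.p.IsHomLift f n → ∃ n' : x.obj (Over.mk (g ≫ b)) ⟶ z, 𝒳.p.IsHomLift (g ≫ f) n' := by
      intro V W f g b n hn
      let e : (Over.mk (g ≫ b) : Over U) ⟶ Over.mk b := Over.homMk g rfl
      have he : 𝒳.p.IsHomLift g (x.map e) := overMap_isHomLift x e
      exact ⟨x.map e ≫ n, inferInstance⟩
    have hfam : fam.Compatible := by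
      intro V₁ V₂ W g₁ g₂ f₁ f₂ h₁ h₂ w
      show N.obj.map g₁.op (h.hom.app (op V₁) ⟨a f₁ h₁⟩) = N.obj.map g₂.op (h.hom.app (op V₂) ⟨a f₂ h₂⟩)
      rw [nat, nat]
      obtain ⟨n₁, hn₁⟩ := hlift f₁ g₁ _ _ (hm f₁ h₁)
      obtain ⟨n₂, hn₂⟩ := hlift f₂ g₂ _ _ (hm f₂ h₂)
      exact hext (g₁ ≫ f₁) _ _ n₁ n₂ hn₁ (w ▸ hn₂)
    have hsh := ((isSheaf_iff_isSheaf_of_type _ _).1 N.property) R hR
    refine ⟨hsh.amalgamate fam hfam, fun V f b n hn => ?_, fun s hs => ?_⟩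
    · refine CatModLocal.ext_of_covering ((J S).pullback_stable f hR) fun W g hg => ?_
      rw [nat, res_res]
      refine (Presieve.IsSheafFor.valid_glue hsh hfam (g ≫ f) hg).trans ?_
      obtain ⟨n', hn'⟩ := hlift f g b n hn
      exact hext (g ≫ f) _ _ _ n' (hm _ hg) hn'
    · refine hsh.isSeparatedFor.ext fun V f hf => ?_
      exact (hs f _ _ (hm f hf)).trans (Presieve.IsSheafFor.valid_glue hsh hfam f hf).symm
  choose σ hσ hσ' using key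
  have hσmap : ∀ {z z' : 𝒳.obj} (φ : z' ⟶ z), N.obj.map (𝒳.p.map φ).op (σ z) = σ z' := fun {z z'} φ =>
    hσ' z' _ fun V f a m hm => by
      rw [res_res]
      refine hσ z _ a (m ≫ φ) ?_
      have : 𝒳.p.IsHomLift (𝒳.p.map φ) φ := IsHomLift.map 𝒳.p φ
      infer_instance
  let Φ : 𝒳 ⥤ᵇ AlgSt.ofSp N :=
    { toFunctor :=
        { obj := fun z => ⟨𝒳.p.obj z, σ z⟩
          map := fun φ => ⟨𝒳.p.map φ, hσmap φ⟩
          map_id := fun z => Stk.EltObj.hom_ext (𝒳.p.map_id z)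
          map_comp := fun φ ψ => Stk.EltObj.hom_ext (𝒳.p.map_comp φ ψ) }
      w := rfl }
  refine ⟨Φ, ObjectProperty.hom_ext _ ?_⟩
  ext W ⟨a⟩
  show (mapOfOver (BasedFunctor.comp x Φ)).hom.app (op W.unop) ⟨a⟩ = h.hom.app (op W.unop) ⟨a⟩
  rw [mapOfOver_app, show secAt Φ (x.obj (Over.mk a)) = σ (x.obj (Over.mk a)) from res_id N.obj _ rfl _]
  exact hσ (x.obj (Over.mk a)) (eqToHom (x.w_obj (Over.mk a)).symm) a (𝟙 _)
    (IsHomLift.of_fac' _ _ _ (x.w_obj (Over.mk a)) rfl (by simp))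

/-- A functor is a categorical moduli space if invariant maps on a chart factor uniquely. -/
theorem isCatModuli_of_chart (hM : IsAlgSpace M) (π : 𝒳 ⥤ᵇ AlgSt.ofSp M)
    (hfac : ∀ (N : Sp S), IsAlgSpace N → ∀ h : (yon S).obj U ⟶ N, IsInv x h →
      ∃! g : M ⟶ N, mapOfOver (BasedFunctor.comp x π) ≫ g = h) :
    AlgSt.IsCatModuli π := by
  refine ⟨hM, fun N hN φ => ?_⟩
  obtain ⟨g, hg, huniq⟩ := hfac N hN _ (isInv_mapOfOver φ)
  refine ⟨g, nonempty_iso_of_mapOfOver_eq h𝒳 hx ((mapOfOver_comp π g).trans hg), ?_⟩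
  rintro g' ⟨e⟩
  exact huniq g' ((mapOfOver_comp π g').symm.trans (mapOfOver_congr e))

end Groth.Agent.WNA49
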