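import Groth.Agent.WNA49.ChartArr
import Groth.Prelude.Def_Grpd

/-!
# The groupoid scheme of a finite locally free chart
-/

set_option autoImplicit false
set_option backward.isDefEq.respectTransparency false
set_option backward.isDefEq.respectTransparency.types false

universe u

open CategoryTheory CategoryTheory.Functor CategoryTheory.Limits AlgebraicGeometry Opposite AlgSp
open Groth.Agent.FibBase Groth.Agent.AlgSpLib Groth.Agent.AlgStLib

namespace Groth.Agent.WNA49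

variable {S : Scheme.{u}} {𝒳 : AlgSt.Cat S} {U : Over S} (x : FibCat.overCat U ⥤ᵇ 𝒳)

/-- A scheme representing the isomorphisms between points of a chart, finite locally free over the chart. -/
structure Pres where
  h𝒳 : FibCat.IsFibGrpd 𝒳.p
  R : Over S
  pt : ∀ W : Over S, (W ⟶ R) ≃ Arr x W
  t : R ⟶ U
  finite : IsFinite t.left
  flat : Flat t.left
  lfp : LocallyOfFinitePresentation t.left
  surj : Surjective t.left
  pt_a : ∀ (W : Over S) (f : W ⟶ R), (pt W f).a = f ≫ t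
  isRes : ∀ (W W' : Over S) (g : W' ⟶ W) (f : W ⟶ R), Arr.IsRes g (pt W' (g ≫ f)) (pt W f)

variable {x}

theorem nonempty_pres (h : Stk.IsPrestack (J S) 𝒳)
    (hx : AlgSt.RepByAlgSpWith (IsSurjectiveMor ⊓ LocP @Flat ⊓ IsFiniteMor ⊓ LocP @LocallyOfFinitePresentation) x) :
    Nonempty (Pres x) := by
  obtain ⟨R, e, t, h₁, h₂, h₃, h₄, h₅, h₆⟩ := exists_arr_scheme h hx
  exact ⟨⟨h.1, R, e, t, h₁, h₂, h₃, h₄, h₅, h₆⟩⟩

namespace Pres

variable (P : Pres x)

/-- The second endpoint. -/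
noncomputable def s : P.R ⟶ U := (P.pt P.R (𝟙 _)).b

theorem pt_b {W : Over S} (f : W ⟶ P.R) : (P.pt W f).b = f ≫ P.s := by
  have := (P.isRes _ _ f (𝟙 P.R)).2.1
  rwa [Category.comp_id] at this

/-- The units. -/
noncomputable def e : U ⟶ P.R := (P.pt U).symm (Arr.one x (𝟙 U))

theorem pt_comp_e {W : Over S} (a : W ⟶ U) : P.pt W (a ≫ P.e) = Arr.one x a := by
  have h1 := P.isRes _ _ a P.e
  rw [show P.pt U P.e = Arr.one x (𝟙 U) from Equiv.apply_symm_apply _ _] at h1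
  have h2 := Arr.isRes_one (x := x) a (𝟙 U)
  exact (Arr.res_unique P.h𝒳 h1 h2).trans (by rw [Category.comp_id])

/-- The inverse. -/
noncomputable def i : P.R ⟶ P.R := (P.pt P.R).symm (Arr.exists_inv P.h𝒳 (P.pt P.R (𝟙 _))).choose

theorem pt_i {W : Over S} (f : W ⟶ P.R) : ∃ (h : (P.pt W f).b = (P.pt W (f ≫ P.i)).a)
    (h' : (P.pt W (f ≫ P.i)).b = (P.pt W f).a),
    (P.pt W f).comp (P.pt W (f ≫ P.i)) h = Arr.one x (P.pt W f).a ∧
      (P.pt W (f ≫ P.i)).comp (P.pt W f) h' = Arr.one x (P.pt W f).b := by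
  obtain ⟨h, h', h₁, h₂⟩ := (Arr.exists_inv P.h𝒳 (P.pt P.R (𝟙 _))).choose_spec
  have hr : Arr.IsRes f (P.pt W f) (P.pt P.R (𝟙 _)) := by
    have := P.isRes _ _ f (𝟙 P.R)
    rwa [Category.comp_id] at this
  have hq : Arr.IsRes f (P.pt W (f ≫ P.i)) (Arr.exists_inv P.h𝒳 (P.pt P.R (𝟙 _))).choose := by
    have := P.isRes _ _ f P.i
    rwa [show P.pt P.R P.i = _ from Equiv.apply_symm_apply _ _] at this
  have e1 : (P.pt W f).b = (P.pt W (f ≫ P.i)).a := (hr.2.1.trans (congrArg (f ≫ ·) h)).trans hq.1.symm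
  have e2 : (P.pt W (f ≫ P.i)).b = (P.pt W f).a := (hq.2.1.trans (congrArg (f ≫ ·) h')).trans hr.1.symm
  refine ⟨e1, e2, Arr.res_unique P.h𝒳 (h₁ ▸ Arr.isRes_comp hr hq h e1) ?_,
    Arr.res_unique P.h𝒳 (h₂ ▸ Arr.isRes_comp hq hr h' e2) ?_⟩
  · rw [hr.1]; exact Arr.isRes_one f _
  · rw [hr.2.1]; exact Arr.isRes_one f _

theorem i_t : P.i ≫ P.t = P.s := by
  obtain ⟨h, -⟩ := P.pt_i (𝟙 P.R)
  rw [P.pt_b, P.pt_a, Category.id_comp, Category.id_comp] at h
  exact h.symm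

theorem i_s : P.i ≫ P.s = P.t := by
  obtain ⟨-, h, -⟩ := P.pt_i (𝟙 P.R)
  rw [P.pt_b, P.pt_a, Category.id_comp, Category.id_comp] at h
  exact h

/-- The object of composable pairs. -/
noncomputable abbrev pairs : Over S := Over.mk (pullback.fst P.s.left P.t.left ≫ P.R.hom)

/-- The first of a composable pair. -/
noncomputable abbrev p₁ : P.pairs ⟶ P.R := Over.homMk (pullback.fst P.s.left P.t.left) rfl

/-- The second of a composable pair. -/
noncomputable abbrev p₂ : P.pairs ⟶ P.R := Over.homMk (pullback.snd P.s.left P.t.left) (by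
  show pullback.snd P.s.left P.t.left ≫ P.R.hom = pullback.fst P.s.left P.t.left ≫ P.R.hom
  conv_lhs => rw [← Over.w P.t, ← Category.assoc, ← pullback.condition, Category.assoc, Over.w P.s])

theorem p₁_s_eq_p₂_t : (P.pt _ P.p₁).b = (P.pt _ P.p₂).a := by
  rw [P.pt_b, P.pt_a]
  exact Over.OverMorphism.ext pullback.condition

/-- The composition. -/
noncomputable def c : P.pairs ⟶ P.R := (P.pt _).symm ((P.pt _ P.p₁).comp (P.pt _ P.p₂) P.p₁_s_eq_p₂_t)

section Points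

variable {T : Scheme.{u}} (α β : T ⟶ P.R.left) (h : α ≫ P.s.left = β ≫ P.t.left)

/-- The base of a point. -/
abbrev base : Over S := Over.mk (α ≫ P.R.hom)

/-- A point as a morphism over the base. -/
abbrev fstPt : P.base α ⟶ P.R := Over.homMk α rfl

include h in
theorem hom_eq : β ≫ P.R.hom = α ≫ P.R.hom := by
  conv_lhs => rw [← Over.w P.t, ← Category.assoc, ← h, Category.assoc, Over.w P.s]

/-- The second point as a morphism over the base. -/
abbrev sndPt : P.base α ⟶ P.R := Over.homMk β (P.hom_eq α β h)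

/-- The composite. -/
noncomputable abbrev cPt : P.base α ⟶ P.R :=
  Over.homMk (pullback.lift α β h ≫ P.c.left) (by
    rw [Category.assoc, Over.w P.c]
    exact (Category.assoc _ _ _).symm.trans (congrArg (· ≫ P.R.hom) (pullback.lift_fst _ _ _)))

theorem pt_cPt : ∃ h' : (P.pt _ (P.fstPt α)).b = (P.pt _ (P.sndPt α β h)).a,
    P.pt _ (P.cPt α β h) = (P.pt _ (P.fstPt α)).comp (P.pt _ (P.sndPt α β h)) h' := by
  let L : P.base α ⟶ P.pairs := Over.homMk (pullback.lift α β h)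
    ((Category.assoc _ _ _).symm.trans (congrArg (· ≫ P.R.hom) (pullback.lift_fst _ _ _)))
  have e₁ : L ≫ P.p₁ = P.fstPt α := Over.OverMorphism.ext (pullback.lift_fst _ _ _)
  have e₂ : L ≫ P.p₂ = P.sndPt α β h := Over.OverMorphism.ext (pullback.lift_snd _ _ _)
  have hr := P.isRes _ _ L P.p₁
  have hq := P.isRes _ _ L P.p₂
  rw [e₁] at hr
  rw [e₂] at hq
  have h' : (P.pt _ (P.fstPt α)).b = (P.pt _ (P.sndPt α β h)).a := by
    rw [hr.2.1, hq.1, P.p₁_s_eq_p₂_t]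
  refine ⟨h', Arr.res_unique P.h𝒳 ?_ (Arr.isRes_comp hr hq P.p₁_s_eq_p₂_t h')⟩
  have := P.isRes _ _ L P.c
  rw [show P.pt _ P.c = _ from Equiv.apply_symm_apply _ _] at this
  exact this

theorem cPt_s : P.cPt α β h ≫ P.s = P.sndPt α β h ≫ P.s := by
  obtain ⟨h', e⟩ := P.pt_cPt α β h
  rw [← P.pt_b, ← P.pt_b, e]
  rfl

theorem cPt_t : P.cPt α β h ≫ P.t = P.fstPt α ≫ P.t := by
  obtain ⟨h', e⟩ := P.pt_cPt α β h
  rw [← P.pt_a, ← P.pt_a, e]
  rfl

end Points

theorem pt_congr {W : Over S} {f g : W ⟶ P.R} (h : f.left = g.left) : P.pt W f = P.pt W g :=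
  congrArg _ (Over.OverMorphism.ext h)

theorem comp_congr {W : Over S} {r r' q q' : Arr x W} (er : r = r') (eq : q = q') (h : r.b = q.a) :
    r.comp q h = r'.comp q' (er ▸ eq ▸ h) := by
  subst er eq; rfl

theorem c_assoc {T : Scheme.{u}} (α β γ : T ⟶ P.R.left) (h₁ : α ≫ P.s.left = β ≫ P.t.left)
    (h₂ : β ≫ P.s.left = γ ≫ P.t.left) (h₃ : (pullback.lift α β h₁ ≫ P.c.left) ≫ P.s.left = γ ≫ P.t.left)
    (h₄ : α ≫ P.s.left = (pullback.lift β γ h₂ ≫ P.c.left) ≫ P.t.left) :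
    pullback.lift (pullback.lift α β h₁ ≫ P.c.left) γ h₃ ≫ P.c.left =
      pullback.lift α (pullback.lift β γ h₂ ≫ P.c.left) h₄ ≫ P.c.left := by
  have hb : P.base (pullback.lift α β h₁ ≫ P.c.left) = P.base α := by
    show Over.mk _ = Over.mk _
    congr 1
    exact Over.w (P.cPt α β h₁)
  let g : P.base α ⟶ P.R := Over.homMk γ ((P.hom_eq β γ h₂).trans (P.hom_eq α β h₁))
  let d : P.base α ⟶ P.base (pullback.lift α β h₁ ≫ P.c.left) :=
    Over.homMk (𝟙 T) ((Category.id_comp _).trans (Over.w (P.cPt α β h₁)))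
  obtain ⟨k₁, e₁⟩ := P.pt_cPt α β h₁
  obtain ⟨k₂, e₂⟩ := P.pt_cPt β γ h₂
  obtain ⟨k₃, e₃⟩ := P.pt_cPt (pullback.lift α β h₁ ≫ P.c.left) γ h₃
  obtain ⟨k₄, e₄⟩ := P.pt_cPt α (pullback.lift β γ h₂ ≫ P.c.left) h₄
  -- the left side over the base of `α`
  have hl : P.pt _ (d ≫ P.cPt _ γ h₃) = (P.pt _ (P.cPt α β h₁)).comp (P.pt _ g) (by
      rw [e₁, show (Arr.comp _ _ k₁).b = (P.pt _ (P.sndPt α β h₁)).b from rfl, P.pt_b, P.pt_a]
      exact Over.OverMorphism.ext h₂) := by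
    refine Arr.res_unique P.h𝒳 (e₃ ▸ P.isRes _ _ d _) (Arr.isRes_comp ?_ ?_ k₃ _)
    · rw [← show d ≫ P.fstPt (pullback.lift α β h₁ ≫ P.c.left) = P.cPt α β h₁ from
        Over.OverMorphism.ext (Category.id_comp _)]
      exact P.isRes _ _ d _
    · rw [← show d ≫ P.sndPt _ γ h₃ = g from Over.OverMorphism.ext (Category.id_comp _)]
      exact P.isRes _ _ d _
  -- the inner right composite over the base of `α`
  let d' : P.base α ⟶ P.base β := Over.homMk (𝟙 T) ((Category.id_comp _).trans (P.hom_eq α β h₁))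
  have hr : P.pt _ (P.sndPt α (pullback.lift β γ h₂ ≫ P.c.left) h₄) =
      (P.pt _ (P.sndPt α β h₁)).comp (P.pt _ g) (by
        rw [P.pt_b, P.pt_a]; exact Over.OverMorphism.ext h₂) := by
    refine Arr.res_unique P.h𝒳 (g := d') (r := (P.pt _ (P.fstPt β)).comp (P.pt _ (P.sndPt β γ h₂)) k₂) ?_
      (Arr.isRes_comp ?_ ?_ k₂ _)
    · rw [← e₂, ← show d' ≫ P.cPt β γ h₂ = P.sndPt α (pullback.lift β γ h₂ ≫ P.c.left) h₄ from
        Over.OverMorphism.ext (Category.id_comp _)]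
      exact P.isRes _ _ d' _
    · rw [← show d' ≫ P.fstPt β = P.sndPt α β h₁ from Over.OverMorphism.ext (Category.id_comp _)]
      exact P.isRes _ _ d' _
    · rw [← show d' ≫ P.sndPt β γ h₂ = g from Over.OverMorphism.ext (Category.id_comp _)]
      exact P.isRes _ _ d' _
  have key : d ≫ P.cPt _ γ h₃ = P.cPt α _ h₄ := by
    refine (P.pt _).injective ?_
    rw [hl, e₄, comp_congr e₁ rfl, comp_congr rfl hr k₄]
    exact Arr.comp_assoc P.h𝒳 _ _ _ _ _
  exact (Category.id_comp _).symm.trans (congrArg Over.Hom.left key)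

theorem c_comp_e {T : Scheme.{u}} (α : T ⟶ P.R.left) (h : α ≫ P.s.left = (α ≫ P.s.left ≫ P.e.left) ≫ P.t.left) :
    pullback.lift α (α ≫ P.s.left ≫ P.e.left) h ≫ P.c.left = α := by
  obtain ⟨k, e⟩ := P.pt_cPt α _ h
  have hu : P.pt _ (P.sndPt α _ h) = Arr.one x (P.fstPt α ≫ P.s) := by
    rw [P.pt_congr (g := (P.fstPt α ≫ P.s) ≫ P.e) (Category.assoc _ _ _).symm, P.pt_comp_e]
  have : P.cPt α _ h = P.fstPt α := by
    refine (P.pt _).injective ?_
    rw [e, comp_congr rfl hu k]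
    exact Arr.comp_one P.h𝒳 _ _
  exact congrArg Over.Hom.left this

theorem c_e_comp {T : Scheme.{u}} (α : T ⟶ P.R.left) (h : (α ≫ P.t.left ≫ P.e.left) ≫ P.s.left = α ≫ P.t.left) :
    pullback.lift (α ≫ P.t.left ≫ P.e.left) α h ≫ P.c.left = α := by
  obtain ⟨k, e⟩ := P.pt_cPt _ α h
  let a : P.base (α ≫ P.t.left ≫ P.e.left) ⟶ U := Over.homMk (α ≫ P.t.left) (by
    show (α ≫ P.t.left) ≫ U.hom = (α ≫ P.t.left ≫ P.e.left) ≫ P.R.hom
    rw [Category.assoc, Category.assoc, Category.assoc, Over.w P.e])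
  have hu : P.pt _ (P.fstPt (α ≫ P.t.left ≫ P.e.left)) = Arr.one x a := by
    rw [P.pt_congr (g := a ≫ P.e) (Category.assoc _ _ _).symm, P.pt_comp_e]
  have : P.cPt _ α h = P.sndPt _ α h := by
    refine (P.pt _).injective ?_
    rw [e, comp_congr hu rfl k]
    exact Arr.one_comp P.h𝒳 _ _
  exact congrArg Over.Hom.left this

theorem e_t : P.e ≫ P.t = 𝟙 U := by
  have := P.pt_comp_e (𝟙 U)
  rw [Category.id_comp] at this
  rw [← P.pt_a, this]
  rfl

theorem e_s : P.e ≫ P.s = 𝟙 U := by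
  have := P.pt_comp_e (𝟙 U)
  rw [Category.id_comp] at this
  rw [← P.pt_b, this]
  rfl

theorem c_comp_i {T : Scheme.{u}} (α : T ⟶ P.R.left) (h : α ≫ P.s.left = (α ≫ P.i.left) ≫ P.t.left) :
    pullback.lift α (α ≫ P.i.left) h ≫ P.c.left = α ≫ P.t.left ≫ P.e.left := by
  obtain ⟨k, e⟩ := P.pt_cPt α _ h
  obtain ⟨k₁, k₂, h₁, -⟩ := P.pt_i (P.fstPt α)
  have hs : P.pt _ (P.sndPt α (α ≫ P.i.left) h) = P.pt _ (P.fstPt α ≫ P.i) := P.pt_congr rfl
  have : P.cPt α _ h = (P.fstPt α ≫ P.t) ≫ P.e := by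
    refine (P.pt _).injective ?_
    rw [e, comp_congr rfl hs k, h₁, P.pt_comp_e, P.pt_a]
  exact (congrArg Over.Hom.left this).trans (Category.assoc _ _ _)

theorem c_i_comp {T : Scheme.{u}} (α : T ⟶ P.R.left) (h : (α ≫ P.i.left) ≫ P.s.left = α ≫ P.t.left) :
    pullback.lift (α ≫ P.i.left) α h ≫ P.c.left = α ≫ P.s.left ≫ P.e.left := by
  obtain ⟨k, e⟩ := P.pt_cPt _ α h
  let β : P.base (α ≫ P.i.left) ⟶ P.R := Over.homMk α (P.hom_eq _ α h)
  obtain ⟨k₁, k₂, -, h₂⟩ := P.pt_i β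
  have hs : P.pt _ (P.fstPt (α ≫ P.i.left)) = P.pt _ (β ≫ P.i) := P.pt_congr rfl
  have : P.cPt _ α h = (β ≫ P.s) ≫ P.e := by
    refine (P.pt _).injective ?_
    rw [e, comp_congr hs (show P.pt _ (P.sndPt _ α h) = P.pt _ β from rfl) k, h₂, P.pt_comp_e, P.pt_b]
  exact (congrArg Over.Hom.left this).trans (Category.assoc _ _ _)

/-- The groupoid scheme. -/
noncomputable def G : Grpd.GroupoidScheme S where
  U := U.left
  R := P.R.left
  pU := U.hom
  pR := P.R.hom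
  s := P.s.left
  t := P.t.left
  e := P.e.left
  i := P.i.left
  c := P.c.left
  s_over := Over.w P.s
  t_over := Over.w P.t
  comp_s α β h := congrArg Over.Hom.left (P.cPt_s α β h)
  comp_t α β h := congrArg Over.Hom.left (P.cPt_t α β h)
  assoc α β γ h₁ h₂ := P.c_assoc α β γ h₁ h₂ _ _
  e_s := congrArg Over.Hom.left P.e_s
  e_t := congrArg Over.Hom.left P.e_t
  comp_e α := P.c_comp_e α _
  e_comp α := P.c_e_comp α _
  i_s := congrArg Over.Hom.left P.i_s
  i_t := congrArg Over.Hom.left P.i_t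
  comp_i α := P.c_comp_i α _
  i_comp α := P.c_i_comp α _

theorem i_i : P.i.left ≫ P.i.left = 𝟙 _ := by
  obtain ⟨k₁, k₂, h₁, -⟩ := P.pt_i (𝟙 P.R)
  obtain ⟨l₁, l₂, h₃, -⟩ := P.pt_i (𝟙 P.R ≫ P.i)
  have : (𝟙 P.R ≫ P.i) ≫ P.i = 𝟙 P.R := by
    refine (P.pt _).injective ?_
    have e := Arr.comp_assoc P.h𝒳 (P.pt _ (𝟙 P.R)) (P.pt _ (𝟙 P.R ≫ P.i)) (P.pt _ ((𝟙 P.R ≫ P.i) ≫ P.i)) k₁ l₁
    rw [comp_congr h₁ rfl, comp_congr rfl h₃] at e
    exact ((Arr.one_comp P.h𝒳 _ _).symm.trans e).trans (Arr.comp_one P.h𝒳 _ _)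
  rw [Category.id_comp] at this
  exact congrArg Over.Hom.left this

instance isIso_i : IsIso P.i.left := ⟨P.i.left, P.i_i, P.i_i⟩

instance finite_s : IsFinite P.G.s := by
  have := P.finite
  show IsFinite P.s.left
  rw [← congrArg Over.Hom.left P.i_t]
  exact MorphismProperty.comp_mem @IsFinite _ _ inferInstance P.finite

instance flat_s : Flat P.G.s := by
  have := P.flat
  show Flat P.s.left
  rw [← congrArg Over.Hom.left P.i_t]
  exact MorphismProperty.comp_mem @Flat _ _ inferInstance P.flat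

instance lfp_s : LocallyOfFinitePresentation P.G.s := by
  have := P.lfp
  show LocallyOfFinitePresentation P.s.left
  rw [← congrArg Over.Hom.left P.i_t]
  exact MorphismProperty.comp_mem @LocallyOfFinitePresentation _ _ inferInstance P.lfp

end Pres

end Groth.Agent.WNA49
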