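import Groth.Agent.ConstQuot49.Descend

/-!
# Maps to algebraic spaces and integral ring extensions
-/

set_option autoImplicit false
set_option backward.isDefEq.respectTransparency false
set_option backward.isDefEq.respectTransparency.types false

universe u

open CategoryTheory CategoryTheory.Limits AlgebraicGeometry Opposite AlgSp Groth.Agent.AlgSpLib Groth.Agent.ConstQuot49
open scoped TensorProduct

namespace Groth.Agent.WNA49

variable {S : Scheme.{u}} {N : Sp S} {B : Type u} [CommRing B] (sB : Spec (CommRingCat.of B) ⟶ S)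
  {Ω : Type u} [Field Ω] [Algebra B Ω] {U : Over S} {p : (yon S).obj U ⟶ N}

/-- Two lifts which agree at all geometric points over a point of the base agree near that point. -/
theorem exists_shrink_integral [IsAlgClosed Ω] (hp : RepWith @Etale p) {E M : Type u} [CommRing E] [Algebra B E] [CommRing M]
    [Algebra B M] [Algebra E M] [IsScalarTower B E M] [Algebra.IsIntegral E M] (ρ : E →ₐ[B] Ω) (k k' : ob sB M ⟶ U)
    (hk : (yon S).map k ≫ p = (yon S).map k' ≫ p)
    (hy : ∀ y : M →ₐ[B] Ω, y.comp (IsScalarTower.toAlgHom B E M) = ρ → mp sB y ≫ k = mp sB y ≫ k') :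
    ∃ f : E, ρ f ≠ 0 ∧ ∀ (M' : Type u) [CommRing M'] [Algebra B M'] (φ : M →ₐ[B] M'),
      IsUnit (φ (algebraMap E M f)) → mp sB φ ≫ k = mp sB φ ≫ k' := by
  obtain ⟨D, hD, hD'⟩ := exists_open_eq hp k k' hk
  let D' : Set (PrimeSpectrum M) := SetLike.coe D
  have hclosed : IsClosed (PrimeSpectrum.comap (algebraMap E M) '' D'ᶜ) :=
    PrimeSpectrum.isClosedMap_comap_of_isIntegral _ (algebraMap_isIntegral_iff.2 ‹_›) _ D.isOpen.isClosed_compl
  let e : PrimeSpectrum E := ⟨RingHom.ker ρ.toRingHom, RingHom.ker_isPrime _⟩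
  have he : e ∈ (PrimeSpectrum.comap (algebraMap E M) '' D'ᶜ)ᶜ := by
    rintro ⟨q, hq, hqe⟩
    obtain ⟨y, hy₁, hy₂⟩ := exists_extension_ker ρ.toRingHom q.asIdeal (congrArg PrimeSpectrum.asIdeal hqe)
    let y' : M →ₐ[B] Ω :=
      { __ := y
        commutes' := fun b => by
          rw [IsScalarTower.algebraMap_apply B E M]
          exact (RingHom.congr_fun hy₁ _).trans (ρ.commutes b) }
    have h1 := hD (mp sB y') (hy y' (AlgHom.ext fun x => RingHom.congr_fun hy₁ x))
    let z : Spec (CommRingCat.of Ω) := default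
    have h2 : (Spec.map (CommRingCat.ofHom y)).base z = q := by
      refine PrimeSpectrum.ext ?_
      change Ideal.comap y z.asIdeal = _
      rw [(Ideal.eq_bot_or_top z.asIdeal).resolve_right z.2.ne_top]
      exact hy₂
    exact hq (h2 ▸ h1 ⟨z, rfl⟩ : q ∈ D')
  obtain ⟨_, ⟨f, rfl⟩, hef, hf⟩ := PrimeSpectrum.isTopologicalBasis_basic_opens.exists_subset_of_mem_open he
    hclosed.isOpen_compl
  refine ⟨f, hef, fun M' _ _ φ hu => hD' _ ?_⟩
  rintro _ ⟨z, rfl⟩
  by_contra hz
  refine hf (show f ∉ (PrimeSpectrum.comap (algebraMap E M) ((Spec.map (CommRingCat.ofHom φ.toRingHom)).base z)).asIdeal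
    from fun hmem => z.2.ne_top (Ideal.eq_top_of_isUnit_mem _ hmem hu)) ⟨_, hz, rfl⟩

/-- Maps to an algebraic space are detected after a integral injective ring map. -/
theorem ext_of_integral (hN : IsAlgSpace N) {E M : Type u} [CommRing E] [Algebra B E] [CommRing M] [Algebra B M]
    [Algebra E M] [IsScalarTower B E M] [Algebra.IsIntegral E M] (hinj : Function.Injective (algebraMap E M))
    (χ χ' : (yon S).obj (ob sB E) ⟶ N)
    (h : (yon S).map (mp sB (IsScalarTower.toAlgHom B E M)) ≫ χ =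
      (yon S).map (mp sB (IsScalarTower.toAlgHom B E M)) ≫ χ') : χ = χ' := by
  have key : ∀ e : PrimeSpectrum E, ∃ (C : Type u) (_ : CommRing C) (_ : Algebra B C) (_ : Algebra E C)
      (_ : IsScalarTower B E C) (_ : Algebra.Etale E C),
      e ∈ Set.range (PrimeSpectrum.comap (algebraMap E C)) ∧
      (yon S).map (mp sB (IsScalarTower.toAlgHom B E C)) ≫ χ =
        (yon S).map (mp sB (IsScalarTower.toAlgHom B E C)) ≫ χ' := by
    intro e
    let Ω := AlgebraicClosure e.asIdeal.ResidueField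
    let ρ₀ : E →+* Ω := (algebraMap e.asIdeal.ResidueField Ω).comp (algebraMap E e.asIdeal.ResidueField)
    let : Algebra B Ω := (ρ₀.comp (algebraMap B E)).toAlgebra
    let ρ : E →ₐ[B] Ω := { __ := ρ₀, commutes' := fun _ => rfl }
    have hρe : RingHom.ker ρ.toRingHom = e.asIdeal := by
      show RingHom.ker ρ₀ = _
      ext x
      simp [ρ₀, Ideal.algebraMap_residueField_eq_zero]
    obtain ⟨y₀, hy₀⟩ := exists_extension hinj ρ₀
    let y : M →ₐ[B] Ω :=
      { __ := y₀
        commutes' := fun b => by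
          rw [IsScalarTower.algebraMap_apply B E M]
          exact RingHom.congr_fun hy₀ _ }
    have hyρ : mp sB y ≫ mp sB (IsScalarTower.toAlgHom B E M) = mp sB ρ := by
      rw [mp_comp]; congr 1; exact AlgHom.ext fun x => RingHom.congr_fun hy₀ x
    have hn : (yon S).map (mp sB ρ) ≫ χ = (yon S).map (mp sB ρ) ≫ χ' := by
      rw [← hyρ, Functor.map_comp, Category.assoc, Category.assoc, h]
    obtain ⟨U, p, u, hp, _, -, hu⟩ := exists_affine_chart hN ((yon S).map (mp sB ρ) ≫ χ)
    obtain ⟨C₁, _, _, _, _, _, ρ₁, t₁, hρ₁, ht₁, hu₁⟩ := exists_lift_nhd sB hp χ ρ u hu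
    obtain ⟨C₂, _, _, _, _, _, ρ₂, t₂, hρ₂, ht₂, hu₂⟩ := exists_lift_nhd sB hp
      ((yon S).map (mp sB (IsScalarTower.toAlgHom B E C₁)) ≫ χ') ρ₁ u (by
        rw [← Category.assoc, ← Functor.map_comp, mp_comp, hρ₁, ← hn, hu])
    let : Algebra E C₂ := ((algebraMap C₁ C₂).comp (algebraMap E C₁)).toAlgebra
    have : IsScalarTower E C₁ C₂ := .of_algebraMap_eq fun _ => rfl
    have : Algebra.Etale E C₂ := Algebra.Etale.comp E C₁ C₂
    have : IsScalarTower B E C₂ := .of_algebraMap_eq fun b => by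
      rw [IsScalarTower.algebraMap_apply B C₁ C₂, IsScalarTower.algebraMap_apply B E C₁]; rfl
    let a : ob sB C₂ ⟶ ob sB C₁ := mp sB (IsScalarTower.toAlgHom B C₁ C₂)
    have hcomp : a ≫ mp sB (IsScalarTower.toAlgHom B E C₁) = mp sB (IsScalarTower.toAlgHom B E C₂) := by
      rw [mp_comp]; congr 1
    -- both lifts on the neighbourhood
    let t : ob sB C₂ ⟶ U := a ≫ t₁
    have ht : (yon S).map t ≫ p = (yon S).map (mp sB (IsScalarTower.toAlgHom B E C₂)) ≫ χ := by
      rw [Functor.map_comp, Category.assoc, ht₁, ← Category.assoc, ← Functor.map_comp, hcomp]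
    have ht' : (yon S).map t₂ ≫ p = (yon S).map (mp sB (IsScalarTower.toAlgHom B E C₂)) ≫ χ' := by
      rw [ht₂, ← Category.assoc, ← Functor.map_comp, hcomp]
    let i : C₂ →ₐ[B] C₂ ⊗[E] M := IsScalarTower.toAlgHom B C₂ (C₂ ⊗[E] M)
    let i' : M →ₐ[B] C₂ ⊗[E] M := (Algebra.TensorProduct.includeRight (R := E) (A := C₂) (B := M)).restrictScalars B
    have hii : mp sB i ≫ mp sB (IsScalarTower.toAlgHom B E C₂) = mp sB i' ≫ mp sB (IsScalarTower.toAlgHom B E M) := by
      rw [mp_comp, mp_comp]; congr 1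
      exact AlgHom.ext fun x => by simp [i, i', Algebra.TensorProduct.algebraMap_apply]
    have hk : (yon S).map (mp sB i ≫ t) ≫ p = (yon S).map (mp sB i ≫ t₂) ≫ p := by
      rw [Functor.map_comp (yon S) (mp sB i) t, Functor.map_comp (yon S) (mp sB i) t₂, Category.assoc,
        Category.assoc, ht, ht', ← Category.assoc,
        ← Category.assoc, ← Functor.map_comp, hii, Functor.map_comp, Category.assoc, Category.assoc, h]
    obtain ⟨f, hf, hf'⟩ := exists_shrink_integral sB hp ρ₂ (mp sB i ≫ t) (mp sB i ≫ t₂) hk fun z hz => by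
      have e1 : mp sB z ≫ mp sB i = mp sB ρ₂ := by
        rw [mp_comp]; congr 1
      rw [← Category.assoc (mp sB z) (mp sB i) t, ← Category.assoc (mp sB z) (mp sB i) t₂, e1, hu₂]
      show mp sB ρ₂ ≫ a ≫ t₁ = u
      rw [← Category.assoc, mp_comp, hρ₂, hu₁]
    let C₃ := Localization.Away f
    have : Algebra.Etale C₂ C₃ := Algebra.Etale.of_isLocalizationAway f
    have : Algebra.Etale E C₃ := Algebra.Etale.comp E C₂ C₃
    let j : C₂ →ₐ[B] C₃ := IsScalarTower.toAlgHom B C₂ C₃
    let jj : C₂ ⊗[E] M →ₐ[B] C₃ ⊗[E] M :=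
      (Algebra.TensorProduct.map (IsScalarTower.toAlgHom E C₂ C₃) (AlgHom.id E M)).restrictScalars B
    let i₃ : C₃ →ₐ[B] C₃ ⊗[E] M := IsScalarTower.toAlgHom B C₃ (C₃ ⊗[E] M)
    have hjj : mp sB jj ≫ mp sB i = mp sB i₃ ≫ mp sB j := by
      rw [mp_comp, mp_comp]; congr 1
    have heq : mp sB jj ≫ (mp sB i ≫ t) = mp sB jj ≫ (mp sB i ≫ t₂) := by
      refine hf' _ jj ?_
      have : jj (algebraMap C₂ (C₂ ⊗[E] M) f) = algebraMap C₃ _ (algebraMap C₂ C₃ f) := by
        simp [jj, Algebra.TensorProduct.algebraMap_apply]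
      rw [this]
      exact (IsLocalization.Away.algebraMap_isUnit f).map _
    have : Module.Flat E C₃ := inferInstance
    have hi₃ : Function.Injective i₃ :=
      Algebra.TensorProduct.includeLeft_injective (S := E) hinj
    have htt : mp sB j ≫ t = mp sB j ≫ t₂ := by
      refine Over.OverMorphism.ext (cancel_affine (φ := CommRingCat.ofHom i₃.toRingHom) hi₃ _ _ ?_)
      refine congrArg CategoryTheory.Over.Hom.left (show mp sB i₃ ≫ mp sB j ≫ t = mp sB i₃ ≫ mp sB j ≫ t₂ from ?_)
      rw [← reassoc_of% hjj, ← reassoc_of% hjj, heq]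
    refine ⟨C₃, inferInstance, inferInstance, inferInstance, inferInstance, inferInstance, ?_, ?_⟩
    · let ρ₃ : C₃ →+* Ω := IsLocalization.Away.lift f (g := ρ₂.toRingHom) (isUnit_iff_ne_zero.2 hf)
      refine ⟨⟨RingHom.ker ρ₃, RingHom.ker_isPrime _⟩, PrimeSpectrum.ext ?_⟩
      show Ideal.comap _ (RingHom.ker ρ₃) = _
      rw [RingHom.comap_ker, IsScalarTower.algebraMap_eq E C₂ C₃, ← RingHom.comp_assoc,
        IsLocalization.Away.lift_comp]
      refine Eq.trans ?_ hρe
      rw [← hρ₁, ← hρ₂]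
      rfl
    · have e3 : mp sB (IsScalarTower.toAlgHom B E C₃) = mp sB j ≫ mp sB (IsScalarTower.toAlgHom B E C₂) := by
        rw [mp_comp]; congr 1
      rw [e3, Functor.map_comp, Category.assoc, Category.assoc, ← ht, ← ht', ← Category.assoc, ← Category.assoc,
        ← Functor.map_comp, ← Functor.map_comp, htt]
  choose C _ _ _ _ _ hC hχ using key
  refine hom_ext_of_etale_cover (fun e => ob sB (C e)) (fun e => mp sB (IsScalarTower.toAlgHom B E (C e)))
    (fun e => ?_) (fun x => ?_) hχ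
  · exact (HasRingHomProperty.Spec_iff (P := @Etale)).mpr
      (RingHom.etale_algebraMap.mpr (inferInstanceAs (Algebra.Etale E (C e))))
  · obtain ⟨z, hz⟩ := hC x
    exact ⟨x, z, hz⟩

end Groth.Agent.WNA49
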