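import Groth.Agent.WNA49.IntAlg
import Groth.Agent.WNA49.IntDescend
import Groth.Agent.ConstQuot49.Exist

/-!
# Categorical quotient of an affine scheme by a finite groupoid, among algebraic spaces
-/

set_option autoImplicit false
set_option backward.isDefEq.respectTransparency false
set_option backward.isDefEq.respectTransparency.types false

universe u

open CategoryTheory CategoryTheory.Limits AlgebraicGeometry Opposite AlgSp Groth.Agent.AlgSpLib Groth.Agent.ConstQuot49
open scoped TensorProduct

namespace Groth.Agent.WNA49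

variable {S : Scheme.{u}} {N : Sp S} {B A : Type u} [CommRing B] [CommRing A] [Algebra B A]
  (sB : Spec (CommRingCat.of B) ⟶ S) (h : (yon S).obj (ob sB A) ⟶ N)

variable {A₁ : Type u} [CommRing A₁] [Algebra B A₁] {s t : A →ₐ[B] A₁}

theorem good_unique (H : QData s t) (hN : IsAlgSpace N) {E : Type u}
    [CommRing E] [Algebra B E] [Module.Flat B E] {χ χ' : (yon S).obj (ob sB E) ⟶ N} (h₁ : Good sB h E χ)
    (h₂ : Good sB h E χ') : χ = χ' := by
  have e : IsScalarTower.toAlgHom B E (E ⊗[B] A) =
      Algebra.TensorProduct.includeLeft (R := B) (S := B) (A := E) (B := A) :=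
    AlgHom.ext fun x => rfl
  have := (H.baseChange E).integral
  refine ext_of_integral (M := E ⊗[B] A) sB hN (H.baseChange E).inj χ χ' ?_
  rw [e]
  exact h₁.trans h₂.symm

attribute [local instance] Algebra.TensorProduct.rightAlgebra in
set_option maxHeartbeats 1000000 in
/-- Locally for the etale topology on the spectrum of the invariants an invariant map descends. -/
theorem exists_good_nhd' (H : QData s t) (hN : IsAlgSpace N)
    (hinv : (yon S).map (mp sB s) ≫ h = (yon S).map (mp sB t) ≫ h)
    (b : PrimeSpectrum B) :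
    ∃ (E : Type u) (_ : CommRing E) (_ : Algebra B E) (_ : Algebra.Etale B E) (χ : (yon S).obj (ob sB E) ⟶ N),
      b ∈ Set.range (PrimeSpectrum.comap (algebraMap B E)) ∧ Good sB h E χ := by
  classical
  have := H.integral
  let k₀ := b.asIdeal.ResidueField
  let Ω := AlgebraicClosure k₀
  let : Algebra B Ω := ((algebraMap k₀ Ω).comp (algebraMap B k₀)).toAlgebra
  let K := SeparableClosure k₀
  let : Algebra B K := ((algebraMap k₀ K).comp (algebraMap B k₀)).toAlgebra
  have : IsScalarTower B k₀ K := .of_algebraMap_eq fun _ => rfl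
  let ι : K →ₐ[k₀] Ω := IsSepClosed.lift
  let ρR : Hensel.Henz B K →ₐ[B] Ω :=
    { __ := ι.toRingHom.comp (Hensel.Henz.proj B K).toRingHom
      commutes' := fun x => by
        show ι (Hensel.Henz.proj B K (algebraMap B _ x)) = _
        rw [AlgHom.commutes, IsScalarTower.algebraMap_apply B k₀ K, AlgHom.commutes]
        rfl }
  let R := Hensel.Henz B K
  have := EtFound.henselianLocalRing_henz' B K
  have := EtFound.isSepClosed_residue_henz' B K
  have hρR : RingHom.ker ρR.toRingHom = IsLocalRing.maximalIdeal R := by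
    rw [EtFound.maximalIdeal_henz']
    ext x
    show ι (Hensel.Henz.proj B K x) = 0 ↔ Hensel.Henz.proj B K x = 0
    exact map_eq_zero_iff _ ι.injective
  -- the geometric points above the point and the chosen lift
  obtain ⟨x₀', hx₀⟩ := exists_extension H.inj (algebraMap B Ω)
  let Pts₀ := {x : A →+* Ω // x.comp (algebraMap B A) = algebraMap B Ω}
  have : Finite Pts₀ := H.finite_points _
  let xg : Pts₀ → (A →ₐ[B] Ω) := fun g => AlgHom.mk g.1 (fun r => RingHom.congr_fun g.2 r)
  have hxg : ∀ g, (yon S).map (mp sB (xg g)) ≫ h =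
      (yon S).map (mp sB (AlgHom.mk x₀' (fun r => RingHom.congr_fun hx₀ r))) ≫ h := fun g => by
    obtain ⟨χ, hχt, hχs⟩ := H.orbit Ω x₀' g.1 (hx₀.trans g.2.symm)
    let χ' : A₁ →ₐ[B] Ω :=
      { __ := χ
        commutes' := fun b => by
          show χ (algebraMap B A₁ b) = _
          rw [← t.commutes b]
          exact (RingHom.congr_fun hχt _).trans (RingHom.congr_fun hx₀ b) }
    rw [show xg g = χ'.comp s from AlgHom.ext fun a => (RingHom.congr_fun hχs a).symm,
      show AlgHom.mk x₀' (fun r => RingHom.congr_fun hx₀ r) = χ'.comp t from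
        AlgHom.ext fun a => (RingHom.congr_fun hχt a).symm,
      ← mp_comp, ← mp_comp, Functor.map_comp, Functor.map_comp, Category.assoc, Category.assoc, hinv]
  obtain ⟨U, p, u, hp, hUa, ⟨S₀, hS₀, hUS₀⟩, hu⟩ := exists_affine_chart hN
    ((yon S).map (mp sB (AlgHom.mk x₀' (fun r => RingHom.congr_fun hx₀ r))) ≫ h)
  let V := hp.rep.pullback h
  let q : V ⟶ ob sB A := hp.rep.snd h
  have : Etale q.left := hp.property_snd h
  let v : Pts₀ → (ob sB Ω ⟶ V) := fun g => hp.rep.lift' u (mp sB (xg g)) (by rw [hxg, hu])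
  obtain ⟨C, _, _, _, j, hj, hw⟩ := exists_etale_affine_through (A := A) (V := V.left) (Ω := Ω) q.left
    (fun g => (v g).left)
  choose w hw using hw
  have hwA : ∀ g, (w g).comp (algebraMap A C) = (xg g).toRingHom := fun g => by
    have h1 : Spec.map (CommRingCat.ofHom (w g)) ≫ Spec.map (CommRingCat.ofHom (algebraMap A C)) =
        Spec.map (CommRingCat.ofHom (xg g).toRingHom) := by
      rw [← hj, ← Category.assoc, hw, ← Over.comp_left, Functor.relativelyRepresentable.lift'_snd, mp_left]
    rw [← Spec.map_comp] at h1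
    exact congrArg CommRingCat.Hom.hom (Spec.map_injective h1)
  let : Algebra B C := ((algebraMap A C).comp (algebraMap B A)).toAlgebra
  have : IsScalarTower B A C := .of_algebraMap_eq fun _ => rfl
  let j' : ob sB C ⟶ V := Over.homMk j (by
    rw [← Over.w q, ← Category.assoc, hj]
    exact Over.w (mp sB (IsScalarTower.toAlgHom B A C)))
  have hj' : j' ≫ q = mp sB (IsScalarTower.toAlgHom B A C) := Over.OverMorphism.ext hj
  -- the section over the strict henselization
  have : Algebra.IsIntegral R (A ⊗[B] R) := by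
    have := (H.baseChange R).integral
    refine Algebra.IsIntegral.of_surjective
      ({ __ := (Algebra.TensorProduct.comm B R A).toRingEquiv.toRingHom
         commutes' := fun r => by simp [Algebra.TensorProduct.algebraMap_apply]; rfl } : R ⊗[B] A →ₐ[R] A ⊗[B] R)
      (Algebra.TensorProduct.comm B R A).surjective
  have hsel : ∀ x : A ⊗[B] R →+* Ω, x.comp (algebraMap R (A ⊗[B] R)) = ρR.toRingHom →
      ∃ g : Pts₀, x.comp (algebraMap A (A ⊗[B] R)) = (xg g).toRingHom := by
    intro x hx
    exact ⟨⟨x.comp (algebraMap A (A ⊗[B] R)), by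
      rw [RingHom.comp_assoc, ← IsScalarTower.algebraMap_eq, IsScalarTower.algebraMap_eq B R (A ⊗[B] R),
        ← RingHom.comp_assoc, hx]
      exact ρR.comp_algebraMap⟩, rfl⟩
  choose sel hsel using hsel
  have : Finite {x : A ⊗[B] R →+* Ω // x.comp (algebraMap R (A ⊗[B] R)) = ρR.toRingHom} := by
    refine Finite.of_injective (fun x => sel x.1 x.2) fun x x' e => Subtype.ext (RingHom.ext fun z => ?_)
    have hA : x.1.comp (algebraMap A (A ⊗[B] R)) = x'.1.comp (algebraMap A (A ⊗[B] R)) :=
      (hsel _ x.2).trans ((congrArg (fun g => (xg g).toRingHom) e).trans (hsel _ x'.2).symm)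
    induction z using TensorProduct.induction_on with
    | zero => simp
    | add a b ha hb => simp only [map_add, ha, hb]
    | tmul a r =>
      rw [show (a ⊗ₜ[B] r : A ⊗[B] R) = algebraMap A _ a * algebraMap R _ r by
        show _ = (a ⊗ₜ[B] (1 : R)) * ((1 : A) ⊗ₜ[B] r)
        rw [Algebra.TensorProduct.tmul_mul_tmul, mul_one, one_mul], map_mul, map_mul]
      exact congrArg₂ (· * ·) (RingHom.congr_fun hA a) (RingHom.congr_fun (x.2.trans x'.2.symm) r)
  obtain ⟨ψ, hψ⟩ := exists_section_of_finite (A := A) (A' := A ⊗[B] R) (C := C) ρR.toRingHom hρR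
    (fun x hx => w (sel x hx)) (fun x hx => by rw [hwA, hsel x hx])
  obtain ⟨Nb, φ', hφ'⟩ := ((EtFound.isColim_henz B K).baseChange A).exists_lift ψ
  let E₁ := Nb.B
  let ρ₁ : E₁ →ₐ[B] Ω := ρR.comp (Hensel.Henz.ofB Nb)
  let φ : C →ₐ[B] E₁ ⊗[B] A := (Algebra.TensorProduct.comm B A E₁).toAlgHom.comp (φ'.restrictScalars B)
  have hφ : φ.comp (IsScalarTower.toAlgHom B A C) =
      Algebra.TensorProduct.includeRight (R := B) (A := E₁) (B := A) := AlgHom.ext fun a => by
    show Algebra.TensorProduct.comm B A E₁ (φ' (algebraMap A C a)) = _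
    rw [AlgHom.commutes]
    simp [Algebra.TensorProduct.algebraMap_apply]
  let k : ob sB (E₁ ⊗[B] A) ⟶ U := mp sB φ ≫ j' ≫ hp.rep.fst' h
  have hk : (yon S).map k ≫ p =
      (yon S).map (mp sB (Algebra.TensorProduct.includeRight (R := B) (A := E₁) (B := A))) ≫ h := by
    simp only [k, Functor.map_comp, Category.assoc, Functor.relativelyRepresentable.map_fst']
    rw [hp.rep.w, ← Functor.map_comp_assoc, ← Functor.map_comp_assoc, Category.assoc, hj', mp_comp, hφ]
  have hy : ∀ y : E₁ ⊗[B] A →ₐ[B] Ω, y.comp (IsScalarTower.toAlgHom B E₁ (E₁ ⊗[B] A)) = ρ₁ →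
      mp sB y ≫ k = u := by
    intro y hy
    let y' : A ⊗[B] R →ₐ[B] Ω := Algebra.TensorProduct.productMap
      (y.comp Algebra.TensorProduct.includeRight) ρR
    have hy' : y'.toRingHom.comp (algebraMap R (A ⊗[B] R)) = ρR.toRingHom := RingHom.ext fun r => by
      show y' (1 ⊗ₜ r) = ρR r
      simp only [y', Algebra.TensorProduct.productMap_apply_tmul, map_one, one_mul]
      rfl
    have hyy : (y'.comp ((Algebra.TensorProduct.map (AlgHom.id A A) (Hensel.Henz.ofB Nb)).restrictScalars B)) =
        y.comp (Algebra.TensorProduct.comm B A E₁).toAlgHom := by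
      refine Algebra.TensorProduct.ext ?_ ?_
      · refine AlgHom.ext fun a => ?_
        show y' (Algebra.TensorProduct.map (AlgHom.id A A) (Hensel.Henz.ofB Nb) (a ⊗ₜ[B] (1 : E₁))) =
          y (Algebra.TensorProduct.comm B A E₁ (a ⊗ₜ 1))
        simp [y']
      · refine AlgHom.ext fun e => ?_
        have := AlgHom.congr_fun hy e
        show y' (Algebra.TensorProduct.map (AlgHom.id A A) (Hensel.Henz.ofB Nb) ((1 : A) ⊗ₜ[B] e)) =
          y (Algebra.TensorProduct.comm B A E₁ (1 ⊗ₜ e))
        simp [y', ρ₁, Algebra.TensorProduct.algebraMap_apply] at this ⊢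
        rw [← this]
        simp [← Algebra.TensorProduct.one_def]
    have h1 : (y.comp φ).toRingHom = w (sel y'.toRingHom hy') := by
      rw [← hψ y'.toRingHom hy', ← hφ']
      refine RingHom.ext fun c => ?_
      exact (AlgHom.congr_fun hyy (φ' c)).symm
    have h2 : mp sB (y.comp φ) ≫ j' = v (sel y'.toRingHom hy') := Over.OverMorphism.ext (by
      rw [Over.comp_left, mp_left, h1]; exact hw _)
    show mp sB y ≫ mp sB φ ≫ j' ≫ hp.rep.fst' h = u
    rw [← Category.assoc, mp_comp, ← Category.assoc, h2, Functor.relativelyRepresentable.lift'_fst]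
  clear_value k
  let S₁ : E₁ ⊗[B] A →ₐ[B] E₁ ⊗[B] A₁ := (bcMap E₁ s).restrictScalars B
  let T₁ : E₁ ⊗[B] A →ₐ[B] E₁ ⊗[B] A₁ := (bcMap E₁ t).restrictScalars B
  have := (H.baseChange E₁).integral'
  obtain ⟨f, hf, hf'⟩ := exists_shrink_integral sB hp ρ₁ (mp sB S₁ ≫ k) (mp sB T₁ ≫ k) (by
    rw [Functor.map_comp, Functor.map_comp, Category.assoc, Category.assoc, hk, ← Category.assoc, ← Category.assoc,
      ← Functor.map_comp, ← Functor.map_comp, mp_comp, mp_comp,
      show S₁.comp Algebra.TensorProduct.includeRight =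
        (Algebra.TensorProduct.includeRight (R := B) (A := E₁) (B := A₁)).comp s from
          AlgHom.ext fun a => by simp [S₁, bcMap],
      show T₁.comp Algebra.TensorProduct.includeRight =
        (Algebra.TensorProduct.includeRight (R := B) (A := E₁) (B := A₁)).comp t from
          AlgHom.ext fun a => by simp [T₁, bcMap],
      ← mp_comp, ← mp_comp, Functor.map_comp, Functor.map_comp, Category.assoc, Category.assoc, hinv])
    fun y hy0 => by
      rw [← Category.assoc, ← Category.assoc, mp_comp, mp_comp, hy _ ?_, hy _ ?_] <;>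
        (rw [← hy0]; exact AlgHom.ext fun e => by simp [S₁, T₁, bcMap, Algebra.TensorProduct.algebraMap_apply])
  let E := Localization.Away f
  have : Algebra.Etale E₁ E := Algebra.Etale.of_isLocalizationAway f
  have : Algebra.Etale B E := Algebra.Etale.comp B E₁ E
  let e₁ : E₁ →ₐ[B] E := IsScalarTower.toAlgHom B E₁ E
  let eA : E₁ ⊗[B] A →ₐ[B] E ⊗[B] A := Algebra.TensorProduct.map e₁ (AlgHom.id B A)
  let eA₁ : E₁ ⊗[B] A₁ →ₐ[B] E ⊗[B] A₁ := Algebra.TensorProduct.map e₁ (AlgHom.id B A₁)
  let k' : ob sB (E ⊗[B] A) ⟶ U := mp sB eA ≫ k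
  let SE : E ⊗[B] A →ₐ[B] E ⊗[B] A₁ := (bcMap E s).restrictScalars B
  let TE : E ⊗[B] A →ₐ[B] E ⊗[B] A₁ := (bcMap E t).restrictScalars B
  have hinv' : mp sB SE ≫ k' = mp sB TE ≫ k' := by
    have hs : SE.comp eA = eA₁.comp S₁ :=
      Algebra.TensorProduct.ext (AlgHom.ext fun e => by simp [SE, S₁, bcMap, eA, eA₁])
        (AlgHom.ext fun a => by simp [SE, S₁, bcMap, eA, eA₁])
    have ht : TE.comp eA = eA₁.comp T₁ :=
      Algebra.TensorProduct.ext (AlgHom.ext fun e => by simp [TE, T₁, bcMap, eA, eA₁])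
        (AlgHom.ext fun a => by simp [TE, T₁, bcMap, eA, eA₁])
    show mp sB SE ≫ mp sB eA ≫ k = mp sB TE ≫ mp sB eA ≫ k
    rw [← Category.assoc, mp_comp, hs, ← Category.assoc (mp sB TE), mp_comp, ht, ← mp_comp, ← mp_comp,
      Category.assoc, Category.assoc]
    refine hf' _ eA₁ ?_
    have hu' : IsUnit (e₁ f) := IsLocalization.Away.algebraMap_isUnit _
    have : eA₁ (algebraMap E₁ _ f) = algebraMap E _ (e₁ f) := by
      simp [eA₁, Algebra.TensorProduct.algebraMap_apply]
      rfl
    rw [this]
    exact hu'.map _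
  -- factor through the invariants
  let κ : Γ(U.left, ⊤) →+* E ⊗[B] A := (Spec.preimage (k'.left ≫ U.left.isoSpec.hom)).hom
  have hκ : Spec.map (CommRingCat.ofHom κ) = k'.left ≫ U.left.isoSpec.hom := Spec.map_preimage _
  have hfix : ∀ x, SE (κ x) = TE (κ x) := by
    intro x
    have h1 : Spec.map (CommRingCat.ofHom SE.toRingHom) ≫ Spec.map (CommRingCat.ofHom κ) =
        Spec.map (CommRingCat.ofHom TE.toRingHom) ≫ Spec.map (CommRingCat.ofHom κ) := by
      rw [hκ, ← mp_left sB, ← mp_left sB, ← Category.assoc, ← Category.assoc, ← Over.comp_left, ← Over.comp_left,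
        hinv']
    rw [← Spec.map_comp, ← Spec.map_comp] at h1
    exact congrArg (fun r : CommRingCat.of Γ(U.left, ⊤) ⟶ CommRingCat.of (E ⊗[B] A₁) => r x) (Spec.map_injective h1)
  choose α hα using fun x => (H.baseChange E).exact (κ x) (hfix x)
  have hinjE : Function.Injective (algebraMap E (E ⊗[B] A)) :=
    Algebra.TensorProduct.includeLeft_injective (S := B) H.inj
  let α' : Γ(U.left, ⊤) →+* E :=
    { toFun := α
      map_one' := hinjE (by rw [hα, map_one, map_one])
      map_mul' := fun x y => hinjE (by rw [hα, map_mul, map_mul, hα, hα])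
      map_zero' := hinjE (by rw [hα, map_zero, map_zero])
      map_add' := fun x y => hinjE (by rw [hα, map_add, map_add, hα, hα]) }
  let tl : Spec (CommRingCat.of E) ⟶ U.left := Spec.map (CommRingCat.ofHom α') ≫ U.left.isoSpec.inv
  let iL : E →ₐ[B] E ⊗[B] A := Algebra.TensorProduct.includeLeft (R := B) (S := B)
  have htl : (mp sB iL).left ≫ tl = k'.left := by
    rw [mp_left, ← Category.assoc, ← Spec.map_comp,
      show CommRingCat.ofHom α' ≫ CommRingCat.ofHom iL.toRingHom = CommRingCat.ofHom κ from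
        CommRingCat.hom_ext (RingHom.ext hα), hκ, Category.assoc, Iso.hom_inv_id, Category.comp_id]
  have := (H.baseChange E).integral
  have hstr : tl ≫ U.hom = (ob sB E).hom := by
    have h1 : (mp sB iL).left ≫ (tl ≫ U.hom) = (mp sB iL).left ≫ (ob sB E).hom := by
      rw [← Category.assoc, htl, Over.w k']
      exact (Over.w (mp sB iL)).symm
    have hsurj : Function.Surjective (mp sB iL).left.base :=
      (algebraMap_isIntegral_iff.2 ‹_› : (algebraMap E (E ⊗[B] A)).IsIntegral).comap_surjective hinjE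
    have ha : Set.range (tl ≫ U.hom).base ⊆ Set.range S₀.ι.base := by
      rw [Scheme.Opens.range_ι]
      rintro _ ⟨z, rfl⟩
      exact hUS₀ ⟨_, rfl⟩
    have hb : Set.range (ob sB E).hom.base ⊆ Set.range S₀.ι.base := by
      rintro _ ⟨z, rfl⟩
      obtain ⟨z, rfl⟩ := hsurj z
      rw [← Scheme.Hom.comp_apply, ← h1]
      exact ha ⟨_, rfl⟩
    have : IsAffine S₀.toScheme := hS₀
    rw [← IsOpenImmersion.lift_fac S₀.ι _ ha, ← IsOpenImmersion.lift_fac S₀.ι _ hb]
    congr 1
    refine cancel_affine (φ := CommRingCat.ofHom (algebraMap E (E ⊗[B] A))) hinjE _ _ ?_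
    rw [← cancel_mono S₀.ι]
    exact (Category.assoc _ _ _).trans ((congrArg (_ ≫ ·) (IsOpenImmersion.lift_fac _ _ _)).trans (h1.trans
      ((congrArg (_ ≫ ·) (IsOpenImmersion.lift_fac _ _ _)).symm.trans (Category.assoc _ _ _).symm)))
  let t : ob sB E ⟶ U := Over.homMk tl hstr
  have ht : mp sB iL ≫ t = k' := Over.OverMorphism.ext htl
  refine ⟨E, inferInstance, inferInstance, inferInstance, (yon S).map t ≫ p, ?_, ?_⟩
  · let ρ : E →+* Ω := IsLocalization.Away.lift f (g := ρ₁.toRingHom) (isUnit_iff_ne_zero.2 hf)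
    refine ⟨⟨RingHom.ker ρ, RingHom.ker_isPrime _⟩, PrimeSpectrum.ext ?_⟩
    show Ideal.comap _ (RingHom.ker ρ) = _
    rw [RingHom.comap_ker, IsScalarTower.algebraMap_eq B E₁ E, ← RingHom.comp_assoc, IsLocalization.Away.lift_comp]
    show RingHom.ker (ρ₁.toRingHom.comp (algebraMap B E₁)) = _
    rw [show ρ₁.toRingHom.comp (algebraMap B E₁) = algebraMap B Ω from ρ₁.comp_algebraMap]
    ext x
    show algebraMap k₀ Ω (algebraMap B k₀ x) = 0 ↔ _
    rw [map_eq_zero, Ideal.algebraMap_residueField_eq_zero]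
  · show (yon S).map (mp sB iL) ≫ (yon S).map t ≫ p = _
    rw [← Category.assoc, ← Functor.map_comp, ht]
    show (yon S).map (mp sB eA ≫ k) ≫ p = _
    rw [Functor.map_comp, Category.assoc, hk, ← Category.assoc, ← Functor.map_comp, mp_comp]
    congr 3
    exact AlgHom.ext fun a => by simp [eA]

/-- An invariant map from the spectrum of a ring to an algebraic space factors uniquely through the spectrum of the
invariants. -/
theorem existsUnique_factor' (H : QData s t) (hN : IsAlgSpace N)
    (hinv : (yon S).map (mp sB s) ≫ h = (yon S).map (mp sB t) ≫ h) :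
    ∃! χ : (yon S).obj (ob sB B) ⟶ N, (yon S).map (mp sB (Algebra.ofId B A)) ≫ χ = h := by
  choose E _ _ _ χ hE hχ using exists_good_nhd' sB h H hN hinv
  let v : ∀ b, ob sB (E b) ⟶ ob sB B := fun b => mp sB (Algebra.ofId B (E b))
  have hv : ∀ b, Etale (v b).left := fun b =>
    (HasRingHomProperty.Spec_iff (P := @Etale)).mpr (RingHom.etale_algebraMap.mpr (inferInstanceAs (Algebra.Etale B (E b))))
  have hs : ∀ x : (ob sB B).left, ∃ b, x ∈ Set.range (v b).left.base := fun x => by
    obtain ⟨z, hz⟩ := hE x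
    exact ⟨x, z, hz⟩
  obtain ⟨c, hc⟩ := exists_glue _ v hv hs χ fun i i' W a a' haa => by
    let l : W.left ⟶ Spec (CommRingCat.of (E i ⊗[B] E i')) :=
      pullback.lift a.left a'.left (congrArg CategoryTheory.Over.Hom.left haa) ≫ (pullbackSpecIso B (E i) (E i')).hom
    let iL : E i →ₐ[B] E i ⊗[B] E i' := Algebra.TensorProduct.includeLeft (R := B) (S := B)
    let iR : E i' →ₐ[B] E i ⊗[B] E i' := Algebra.TensorProduct.includeRight
    have h1 : l ≫ Spec.map (CommRingCat.ofHom iL.toRingHom) = a.left := by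
      show (pullback.lift a.left a'.left _ ≫ _) ≫
        Spec.map (CommRingCat.ofHom (Algebra.TensorProduct.includeLeftRingHom (R := B) (A := E i) (B := E i'))) = _
      exact (Category.assoc _ _ _).trans ((congrArg (_ ≫ ·) (pullbackSpecIso_hom_fst _ _ _)).trans (pullback.lift_fst _ _ _))
    have h2 : l ≫ Spec.map (CommRingCat.ofHom iR.toRingHom) = a'.left := by
      show (pullback.lift a.left a'.left _ ≫ _) ≫ Spec.map (CommRingCat.ofHom
        (Algebra.TensorProduct.includeRight (R := B) (A := E i) (B := E i')).toRingHom) = _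
      exact (Category.assoc _ _ _).trans ((congrArg (_ ≫ ·) (pullbackSpecIso_hom_snd _ _ _)).trans (pullback.lift_snd _ _ _))
    let m : W ⟶ ob sB (E i ⊗[B] E i') := Over.homMk l (by
      rw [← Over.w (mp sB iL), ← Category.assoc, mp_left, h1]
      exact Over.w a)
    rw [show a = m ≫ mp sB iL from Over.OverMorphism.ext h1.symm,
      show a' = m ≫ mp sB iR from Over.OverMorphism.ext h2.symm, Functor.map_comp, Functor.map_comp,
      Category.assoc, Category.assoc, good_unique sB h H hN (Good.map sB h iL (hχ i)) (Good.map sB h iR (hχ i'))]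
  have hcA : (yon S).map (mp sB (Algebra.ofId B A)) ≫ c = h := by
    refine hom_ext_of_etale_cover (fun b => ob sB (E b ⊗[B] A))
      (fun b => mp sB (Algebra.TensorProduct.includeRight (R := B) (A := E b) (B := A))) (fun b => ?_) (fun x => ?_)
      fun b => ?_
    · have e : (Algebra.TensorProduct.includeRight (R := B) (A := E b) (B := A)).toRingHom =
          (Algebra.TensorProduct.comm B A (E b)).toRingEquiv.toRingHom.comp (algebraMap A (A ⊗[B] E b)) := by
        ext a; simp [Algebra.TensorProduct.algebraMap_apply]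
      rw [mp_left, e]
      refine (HasRingHomProperty.Spec_iff (P := @Etale)).mpr ?_
      exact RingHom.Etale.respectsIso.1 _ _ (RingHom.etale_algebraMap.mpr (inferInstanceAs (Algebra.Etale A (A ⊗[B] E b))))
    · let x' : PrimeSpectrum A := x
      obtain ⟨z, hz⟩ := hE (PrimeSpectrum.comap (algebraMap B A) x')
      obtain ⟨r, hr, -⟩ := WStrictLib.exists_point_tensor (A := B) (C := E (PrimeSpectrum.comap (algebraMap B A) x'))
        x' z hz.symm
      exact ⟨_, r, hr⟩
    · have e : (mp sB (Algebra.TensorProduct.includeRight (R := B) (A := E b) (B := A))) ≫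
          mp sB (Algebra.ofId B A) =
          mp sB (Algebra.TensorProduct.includeLeft (R := B) (S := B) (A := E b) (B := A)) ≫ v b := by
        rw [mp_comp, mp_comp]; congr 1; exact Subsingleton.elim _ _
      rw [← Category.assoc, ← Functor.map_comp, e, Functor.map_comp, Category.assoc, hc]
      exact hχ b
  refine ⟨c, hcA, fun c' hc' => ?_⟩
  have e : IsScalarTower.toAlgHom B B A = Algebra.ofId B A := AlgHom.ext fun _ => rfl
  have := H.integral
  exact ext_of_integral (M := A) sB hN H.inj c' c (by rw [e, hcA, hc'])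

end Groth.Agent.WNA49
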