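import Groth.Agent.ConstQuot49.Alg
import Groth.Agent.EtFound.IntegralCore

/-!
# Finite groupoids of rings: strictly henselian sections, invariants and flat base change
-/

set_option autoImplicit false
set_option backward.isDefEq.respectTransparency false
set_option backward.isDefEq.respectTransparency.types false

universe u

open scoped TensorProduct

namespace Groth.Agent.WNA49

open IsLocalRing

section Henselian

variable {R A' Ω : Type u} [CommRing R] [HenselianLocalRing R] [IsSepClosed (ResidueField R)]
  [CommRing A'] [Algebra R A'] [Algebra.IsIntegral R A'] [Field Ω]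

/-- Points of an integral algebra over a strictly henselian ring are determined by their kernel. -/
theorem ext_of_ker_eq_integral (ρ : R →+* Ω) (hρ : RingHom.ker ρ = maximalIdeal R) (x x' : A' →+* Ω)
    (hx : x.comp (algebraMap R A') = ρ) (hx' : x'.comp (algebraMap R A') = ρ)
    (hk : RingHom.ker x = RingHom.ker x') : x = x' := by
  let k := ResidueField R
  let : Algebra k Ω := (Ideal.Quotient.lift (maximalIdeal R) ρ fun a ha => hρ.ge ha).toAlgebra
  let q := RingHom.ker x
  have : q.IsPrime := RingHom.ker_isPrime x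
  have hq : q.comap (algebraMap R A') = maximalIdeal R := by
    rw [RingHom.comap_ker, hx, hρ]
  let : Algebra k (A' ⧸ q) := (Ideal.Quotient.lift (maximalIdeal R) ((Ideal.Quotient.mk q).comp (algebraMap R A'))
    fun a ha => Ideal.Quotient.eq_zero_iff_mem.2 (hq.ge ha)).toAlgebra
  have : IsScalarTower R k (A' ⧸ q) := .of_algebraMap_eq fun r => rfl
  have : Algebra.IsIntegral R (A' ⧸ q) := ⟨fun z => by
    obtain ⟨b, rfl⟩ := Ideal.Quotient.mk_surjective z
    exact (Algebra.IsIntegral.isIntegral (R := R) b).map (Ideal.Quotient.mkₐ R q)⟩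
  have : Algebra.IsIntegral k (A' ⧸ q) := Algebra.IsIntegral.tower_top (R := R)
  have := (Algebra.IsIntegral.isField_iff_isField (R := k) (S := A' ⧸ q) (algebraMap k (A' ⧸ q)).injective).1
    (Field.toIsField k)
  let := this.toField
  have : Algebra.IsAlgebraic k (A' ⧸ q) := Algebra.IsIntegral.isAlgebraic
  have : IsPurelyInseparable k (A' ⧸ q) := inferInstance
  let f : A' ⧸ q →ₐ[k] Ω := ⟨Ideal.Quotient.lift q x (fun _ h => h), fun c => by
    obtain ⟨r, rfl⟩ := residue_surjective c
    exact RingHom.congr_fun hx r⟩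
  let f' : A' ⧸ q →ₐ[k] Ω := ⟨Ideal.Quotient.lift q x' (fun _ h => hk.le h), fun c => by
    obtain ⟨r, rfl⟩ := residue_surjective c
    exact RingHom.congr_fun hx' r⟩
  have hff : f.toRingHom = f'.toRingHom :=
    IsPurelyInseparable.injective_comp_algebraMap k (A' ⧸ q) Ω (f.comp_algebraMap.trans f'.comp_algebraMap.symm)
  exact RingHom.ext fun a => RingHom.congr_fun hff (Ideal.Quotient.mk q a)

/-- Over a strictly henselian ring, compatible geometric points of an etale algebra over an integral algebra
with finitely many points in the closed fibre come from a section. -/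
theorem exists_section_of_finite [IsAlgClosed Ω] {A C : Type u} [CommRing A] [Algebra A A'] [CommRing C]
    [Algebra A C] [Algebra.Etale A C]
    (ρ : R →+* Ω) (hρ : RingHom.ker ρ = maximalIdeal R)
    [Finite {x : A' →+* Ω // x.comp (algebraMap R A') = ρ}]
    (w : ∀ x : A' →+* Ω, x.comp (algebraMap R A') = ρ → C →+* Ω)
    (hw : ∀ x hx, (w x hx).comp (algebraMap A C) = x.comp (algebraMap A A')) :
    ∃ ψ : C →ₐ[A] A', ∀ x hx, x.comp ψ.toRingHom = w x hx := by
  classical
  let k := ResidueField R
  let J : Ideal A' := (maximalIdeal R).map (algebraMap R A')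
  let Pts := {x : A' →+* Ω // x.comp (algebraMap R A') = ρ}
  have hJ : ∀ x : Pts, J ≤ RingHom.ker x.1 := fun x =>
    Ideal.map_le_iff_le_comap.2 (by rw [RingHom.comap_ker, x.2, hρ])
  have hmax : ∀ x : Pts, (RingHom.ker x.1).IsMaximal := fun x => by
    have := RingHom.ker_isPrime x.1
    refine Ideal.isMaximal_of_isIntegral_of_isMaximal_comap (R := R) _ ?_
    rw [RingHom.comap_ker, x.2, hρ]
    exact maximalIdeal.isMaximal R
  have hrange : ∀ (x : Pts) (c : C), w x.1 x.2 c ∈ x.1.range := by
    intro x c
    let F := A' ⧸ RingHom.ker x.1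
    have := hmax x
    let := Ideal.Quotient.field (RingHom.ker x.1)
    let : Algebra k F := (Ideal.Quotient.lift (maximalIdeal R) ((Ideal.Quotient.mk _).comp (algebraMap R A'))
      fun a ha => Ideal.Quotient.eq_zero_iff_mem.2 (hJ x (Ideal.mem_map_of_mem _ ha))).toAlgebra
    have : IsScalarTower R k F := .of_algebraMap_eq fun r => rfl
    have : Algebra.IsIntegral R F := ⟨fun z => by
      obtain ⟨b, rfl⟩ := Ideal.Quotient.mk_surjective z
      exact (Algebra.IsIntegral.isIntegral (R := R) b).map (Ideal.Quotient.mkₐ R _)⟩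
    have : Algebra.IsIntegral k F := Algebra.IsIntegral.tower_top (R := R)
    have : Algebra.IsAlgebraic k F := Algebra.IsIntegral.isAlgebraic
    have : IsSepClosed F := @Algebra.IsAlgebraic.isSepClosed k F _ _ _ _ _
    let xb : F →+* Ω := RingHom.kerLift x.1
    let : Algebra F Ω := xb.toAlgebra
    let : Algebra A Ω := (x.1.comp (algebraMap A A')).toAlgebra
    have : IsScalarTower A F Ω := .of_algebraMap_eq fun a => rfl
    let σ : F ⊗[A] C →ₐ[F] Ω := Algebra.TensorProduct.lift (Algebra.ofId _ _)
      { __ := w x.1 x.2, commutes' := fun a => RingHom.congr_fun (hw x.1 x.2) a } fun _ _ => .all _ _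
    obtain ⟨d, hd⟩ := Hensel.mem_range_of_formallyUnramified_sepClosed σ (1 ⊗ₜ c)
    obtain ⟨a, rfl⟩ := Ideal.Quotient.mk_surjective d
    exact ⟨a, (hd.symm.trans (by simp [σ]) : _)⟩
  let I : Ideal A' := ⨅ x : Pts, RingHom.ker x.1
  have hI : J ≤ I := le_iInf hJ
  have hIr : I ≤ J.radical := fun a ha => by
    rw [Ideal.radical_eq_sInf, Ideal.mem_sInf]
    rintro P ⟨hJP, hP⟩
    have hPm : P.comap (algebraMap R A') = maximalIdeal R :=
      ((maximalIdeal.isMaximal R).eq_of_le (Ideal.IsPrime.ne_top inferInstance)
        (Ideal.map_le_iff_le_comap.1 hJP)).symm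
    obtain ⟨x, hx, hxP⟩ := ConstQuot49.exists_extension_ker ρ P (hPm.trans hρ.symm)
    exact hxP ▸ (Submodule.mem_iInf _).1 ha ⟨x, hx⟩
  let Φ : A' ⧸ I →+* (Pts → Ω) := Ideal.Quotient.lift I (RingHom.pi fun x : Pts => x.1) fun a ha =>
    funext fun x => (Submodule.mem_iInf _).1 ha x
  have hΦ : Function.Injective Φ := by
    refine RingHom.lift_injective_of_ker_le_ideal I _ fun a ha => (Submodule.mem_iInf _).2 fun x => ?_
    exact congrFun (RingHom.mem_ker.1 ha) x
  have hΦmk : ∀ a x, Φ (Ideal.Quotient.mk I a) x = x.1 a := fun a x => rfl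
  have hs : ∀ c : C, ∃ a : A', ∀ x : Pts, x.1 a = w x.1 x.2 c := fun c =>
    ConstQuot49.exists_eq_of_points (fun x : Pts => x.1) hmax
      (fun x y h => Subtype.ext (ext_of_ker_eq_integral ρ hρ _ _ x.2 y.2 h)) _ fun x => hrange x c
  choose s hs' using hs
  let σI : C →ₐ[A] A' ⧸ I :=
    { toFun := fun c => Ideal.Quotient.mk I (s c)
      map_one' := hΦ (funext fun x => by simp [hΦmk, hs'])
      map_mul' := fun c d => hΦ (funext fun x => by simp [hΦmk, hs'])
      map_zero' := hΦ (funext fun x => by simp [hΦmk, hs'])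
      map_add' := fun c d => hΦ (funext fun x => by simp [hΦmk, hs'])
      commutes' := fun a => hΦ (funext fun x => by
        show Φ (Ideal.Quotient.mk I _) x = Φ (Ideal.Quotient.mk I _) x
        rw [hΦmk, hΦmk, hs']
        exact RingHom.congr_fun (hw x.1 x.2) a) }
  have : HenselianRing A' J := Hensel.henselianRing_of_isIntegral' (maximalIdeal R) A'
  have : HenselianRing A' J.radical := (Hensel.henselianRing_radical_iff J).2 inferInstance
  have : HenselianRing A' I := Hensel.henselianRing_of_le hIr
  obtain ⟨ψ, hψ, -⟩ := Hensel.existsUnique_etale_lift_of_algebra (A := A') (I := I) σI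
  refine ⟨ψ, fun x hx => RingHom.ext fun c => ?_⟩
  have h1 : Ideal.Quotient.mk I (ψ c) = Ideal.Quotient.mk I (s c) := AlgHom.congr_fun hψ c
  have := congrFun (congrArg Φ h1) ⟨x, hx⟩
  rw [hΦmk, hΦmk, hs'] at this
  exact this

end Henselian

section QData

variable {B A A₁ : Type u} [CommRing B] [CommRing A] [Algebra B A] [CommRing A₁] [Algebra B A₁]

/-- The algebraic data of a quotient by a finite groupoid: `B` is the ring of invariants of `s, t : A ⟶ A₁`,
`A` is integral over it and the geometric fibres are orbits. -/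
structure QData (s t : A →ₐ[B] A₁) : Prop where
  inj : Function.Injective (algebraMap B A)
  integral : Algebra.IsIntegral B A
  exact : ∀ a, s a = t a → a ∈ Set.range (algebraMap B A)
  finite : s.toRingHom.Finite
  orbit : ∀ (Ω : Type u) [Field Ω] [IsAlgClosed Ω] (x₀ x₁ : A →+* Ω),
    x₀.comp (algebraMap B A) = x₁.comp (algebraMap B A) →
      ∃ χ : A₁ →+* Ω, χ.comp t.toRingHom = x₀ ∧ χ.comp s.toRingHom = x₁

variable {s t : A →ₐ[B] A₁} (H : QData s t)
include H

theorem QData.integral' : Algebra.IsIntegral B A₁ := by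
  let : Algebra A A₁ := s.toRingHom.toAlgebra
  have : IsScalarTower B A A₁ := .of_algebraMap_eq fun b => (s.commutes b).symm
  have : Module.Finite A A₁ := H.finite
  have : Algebra.IsIntegral A A₁ := Algebra.IsIntegral.of_finite A A₁
  have := H.integral
  exact Algebra.IsIntegral.trans A

theorem QData.finite_points {Ω : Type u} [Field Ω] [IsAlgClosed Ω] (y : B →+* Ω) :
    Finite {x : A →+* Ω // x.comp (algebraMap B A) = y} := by
  have := H.integral
  obtain ⟨x₁, hx₁⟩ := ConstQuot49.exists_extension H.inj y
  let : Algebra A A₁ := s.toRingHom.toAlgebra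
  let : Algebra A Ω := x₁.toAlgebra
  have : Module.Finite A A₁ := H.finite
  have : Module.Finite Ω (Ω ⊗[A] A₁) := inferInstance
  have : Finite (Ω ⊗[A] A₁ →ₐ[Ω] Ω) := inferInstance
  let e := Algebra.TensorProduct.liftEquivRight A Ω A₁ Ω
  choose χ hχt hχs using fun x : {x : A →+* Ω // x.comp (algebraMap B A) = y} =>
    H.orbit Ω x.1 x₁ (x.2.trans hx₁.symm)
  refine Finite.of_injective (fun x => (Algebra.TensorProduct.lift (Algebra.ofId Ω Ω)
    (AlgHom.mk (χ x) (fun a => RingHom.congr_fun (hχs x) a)) fun _ _ => .all _ _ : Ω ⊗[A] A₁ →ₐ[Ω] Ω))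
    fun x x' h => Subtype.ext ?_
  rw [← hχt x, ← hχt x']
  refine RingHom.ext fun a => ?_
  have := AlgHom.congr_fun h (1 ⊗ₜ t a)
  simp only [Algebra.TensorProduct.lift_tmul, map_one, one_mul] at this
  exact this

omit H in
/-- A base change of an algebra map. -/
noncomputable def bcMap (E : Type u) [CommRing E] [Algebra B E] (s : A →ₐ[B] A₁) : E ⊗[B] A →ₐ[E] E ⊗[B] A₁ :=
  Algebra.TensorProduct.map (AlgHom.id E E) s

omit H in
/-- A base change of a finite map is finite. -/
theorem finite_bcMap (E : Type u) [CommRing E] [Algebra B E] (s : A →ₐ[B] A₁) (hs : s.toRingHom.Finite) :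
    (bcMap E s).toRingHom.Finite := by
  let : Algebra A A₁ := s.toRingHom.toAlgebra
  have : Module.Finite A A₁ := hs
  let alg : Algebra (E ⊗[B] A) (E ⊗[B] A₁) := (bcMap E s).toRingHom.toAlgebra
  obtain ⟨G, hG⟩ := Module.Finite.fg_top (R := A) (M := A₁)
  classical
  refine ⟨⟨G.image fun g => (1 : E) ⊗ₜ[B] g, eq_top_iff.2 fun z hz => ?_⟩⟩
  clear hz
  induction z using TensorProduct.induction_on with
  | zero => exact Submodule.zero_mem _
  | add a b ha hb => exact Submodule.add_mem _ ha hb
  | tmul e a₁ =>
    have ha : a₁ ∈ Submodule.span A (G : Set A₁) := hG ▸ Submodule.mem_top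
    induction ha using Submodule.span_induction generalizing e with
    | mem g hg =>
      have h1 : (e ⊗ₜ[B] g : E ⊗[B] A₁) = (e ⊗ₜ[B] (1 : A)) • ((1 : E) ⊗ₜ[B] g) := by
        rw [Algebra.smul_def, RingHom.algebraMap_toAlgebra]
        simp [bcMap]
      rw [h1]
      exact Submodule.smul_mem _ _ (Submodule.subset_span (Finset.mem_image_of_mem _ hg))
    | zero => rw [TensorProduct.tmul_zero]; exact Submodule.zero_mem _
    | add a b _ _ ha hb => rw [TensorProduct.tmul_add]; exact Submodule.add_mem _ (ha e) (hb e)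
    | smul c a _ ha =>
      have h1 : (e ⊗ₜ[B] (c • a) : E ⊗[B] A₁) = ((1 : E) ⊗ₜ[B] c) • (e ⊗ₜ[B] a) := by
        rw [Algebra.smul_def c a, Algebra.smul_def, RingHom.algebraMap_toAlgebra, RingHom.algebraMap_toAlgebra]
        simp [bcMap]
      rw [h1]
      exact Submodule.smul_mem _ _ (ha e)

theorem QData.baseChange (E : Type u) [CommRing E] [Algebra B E] [Module.Flat B E] :
    QData (bcMap E s) (bcMap E t) where
  inj := Algebra.TensorProduct.includeLeft_injective (S := B) H.inj
  integral := by
    have := H.integral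
    infer_instance
  exact z hz := by
    let f : A →ₗ[B] A₁ := s.toLinearMap - t.toLinearMap
    have hex : Function.Exact (Algebra.linearMap B A) f := by
      intro a
      simp only [f, LinearMap.sub_apply, sub_eq_zero, AlgHom.toLinearMap_apply]
      exact ⟨fun h => H.exact a h, fun ⟨b, hb⟩ => hb ▸ (s.commutes b).trans (t.commutes b).symm⟩
    have hex' := Module.Flat.lTensor_exact E hex
    have key : ∀ w : E ⊗[B] A, f.lTensor E w = bcMap E s w - bcMap E t w := by
      intro w
      induction w using TensorProduct.induction_on with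
      | zero => simp
      | add a b ha hb => simp only [map_add, ha, hb]; abel
      | tmul e a => simp [f, bcMap, TensorProduct.tmul_sub]
    obtain ⟨w, rfl⟩ := (hex' z).1 (by rw [key, hz, sub_self])
    have key' : ∀ w : E ⊗[B] B, (Algebra.linearMap B A).lTensor E w =
        algebraMap E (E ⊗[B] A) (TensorProduct.rid B E w) := by
      intro w
      induction w using TensorProduct.induction_on with
      | zero => simp
      | add a b ha hb => simp only [map_add, ha, hb]
      | tmul e b =>
        rw [LinearMap.lTensor_tmul, Algebra.linearMap_apply, TensorProduct.rid_tmul,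
          Algebra.TensorProduct.algebraMap_apply, Algebra.algebraMap_self_apply,
          Algebra.algebraMap_eq_smul_one b, TensorProduct.tmul_smul, TensorProduct.smul_tmul']
    exact ⟨_, (key' w).symm⟩
  finite := finite_bcMap E s H.finite
  orbit Ω _ _ x₀ x₁ h := by
    let : Algebra B Ω := (x₀.comp (algebraMap B (E ⊗[B] A))).toAlgebra
    let ρ : E →ₐ[B] Ω :=
      { __ := x₀.comp (algebraMap E (E ⊗[B] A))
        commutes' := fun b => by
          show x₀ (algebraMap E _ (algebraMap B E b)) = _
          rw [← IsScalarTower.algebraMap_apply]; rfl }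
    obtain ⟨χ, ht, hs⟩ := H.orbit Ω (x₀.comp Algebra.TensorProduct.includeRight.toRingHom)
      (x₁.comp Algebra.TensorProduct.includeRight.toRingHom) (RingHom.ext fun b => by
        show x₀ ((Algebra.TensorProduct.includeRight (R := B) (A := E) (B := A)) (algebraMap B A b)) =
          x₁ ((Algebra.TensorProduct.includeRight (R := B) (A := E) (B := A)) (algebraMap B A b))
        rw [AlgHom.commutes, IsScalarTower.algebraMap_apply B E (E ⊗[B] A)]
        exact RingHom.congr_fun h _)
    let χ' : A₁ →ₐ[B] Ω :=
      { __ := χ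
        commutes' := fun b => by
          show χ (algebraMap B A₁ b) = _
          rw [← t.commutes b]
          exact (RingHom.congr_fun ht _).trans (congrArg x₀
            ((Algebra.TensorProduct.includeRight (R := B) (A := E) (B := A)).commutes b)) }
    refine ⟨(Algebra.TensorProduct.productMap ρ χ').toRingHom, ?_, ?_⟩
    · refine RingHom.ext fun z => ?_
      induction z using TensorProduct.induction_on with
      | zero => simp
      | add a b ha hb => simp only [map_add, ha, hb]
      | tmul e a =>
        show Algebra.TensorProduct.productMap ρ χ' (bcMap E t (e ⊗ₜ a)) = _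
        simp only [bcMap, Algebra.TensorProduct.map_tmul, AlgHom.id_apply, Algebra.TensorProduct.productMap_apply_tmul]
        rw [show (e ⊗ₜ[B] a : E ⊗[B] A) = algebraMap E _ e * (1 ⊗ₜ a) by simp [Algebra.TensorProduct.algebraMap_apply],
          map_mul]
        exact congrArg (_ * ·) (RingHom.congr_fun ht a)
    · refine RingHom.ext fun z => ?_
      induction z using TensorProduct.induction_on with
      | zero => simp
      | add a b ha hb => simp only [map_add, ha, hb]
      | tmul e a =>
        show Algebra.TensorProduct.productMap ρ χ' (bcMap E s (e ⊗ₜ a)) = _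
        simp only [bcMap, Algebra.TensorProduct.map_tmul, AlgHom.id_apply, Algebra.TensorProduct.productMap_apply_tmul]
        rw [show (e ⊗ₜ[B] a : E ⊗[B] A) = algebraMap E _ e * (1 ⊗ₜ a) by simp [Algebra.TensorProduct.algebraMap_apply],
          map_mul]
        exact congrArg₂ (· * ·) (RingHom.congr_fun h e) (RingHom.congr_fun hs a)

end QData

end Groth.Agent.WNA49
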