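import Groth.Agent.WNA49.ChartGrpd
import Groth.Agent.WNA49.ChartBC
import Groth.Agent.WNA49.GrpdExist
import Groth.Agent.GrpdLib.Quot
import Groth.Agent.S4085
import Groth.Agent.S16704

/-!
# The affine moduli space of a well-nigh affine stack
-/

set_option autoImplicit false
set_option backward.isDefEq.respectTransparency false
set_option backward.isDefEq.respectTransparency.types false

universe u

open CategoryTheory CategoryTheory.Functor CategoryTheory.Limits AlgebraicGeometry Opposite AlgSp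
open Groth.Agent.FibBase Groth.Agent.AlgSpLib Groth.Agent.AlgStLib Groth.Agent.ConstQuot49
open scoped TensorProduct

namespace Groth.Agent.WNA49

variable {S : Scheme.{u}} {𝒳 : AlgSt.Cat S} {U : Over S} {x : FibCat.overCat U ⥤ᵇ 𝒳}

namespace Pres

variable [IsAffine U.left] (P : Pres x)

instance isAffine_U : IsAffine P.G.U := inferInstanceAs (IsAffine U.left)

instance isAffine_R : IsAffine P.G.R := by
  have := P.finite
  exact isAffine_of_isAffineHom P.t.left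

/-- The ring of invariants. -/
abbrev K : Type u := P.G.invariants

theorem qdata : ∃ (_ : Algebra P.K Γ(P.G.R, ⊤)) (s t : Γ(P.G.U, ⊤) →ₐ[P.K] Γ(P.G.R, ⊤)),
    QData s t ∧ s.toRingHom = P.G.s.appTop.hom ∧ t.toRingHom = P.G.t.appTop.hom := by
  let : Algebra P.K Γ(P.G.R, ⊤) := (P.G.s.appTop.hom.comp P.G.invariants.subtype).toAlgebra
  let s : Γ(P.G.U, ⊤) →ₐ[P.K] Γ(P.G.R, ⊤) := { P.G.s.appTop.hom with commutes' := fun k => rfl }
  let t : Γ(P.G.U, ⊤) →ₐ[P.K] Γ(P.G.R, ⊤) := { P.G.t.appTop.hom with commutes' := fun k => k.2.symm }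
  refine ⟨inferInstance, s, t, ⟨Subtype.val_injective, GrpdLib.isIntegral_invariants P.G,
    fun a h => ⟨⟨a, h⟩, rfl⟩, P.G.s.finite_appTop, fun Ω _ _ x₀ x₁ h => ?_⟩, rfl, rfl⟩
  obtain ⟨n, ⟨F⟩⟩ := GrpdLib.exists_frame_affData P.G
  exact (GrpdLib.affData P.G).exists_point F P.G.s.finite_appTop x₀ x₁ fun a ha =>
    RingHom.congr_fun h ⟨a, ha⟩

theorem exists_structure : ∃ sM : Spec (CommRingCat.of P.K) ⟶ S, P.G.toQuot ≫ sM = U.hom := by
  obtain ⟨Y, p, w, ⟨hc⟩, -, -, -, -, -, hY⟩ := Groth.Agent.S4085.result S P.G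
    ⟨inferInstance, inferInstance, inferInstance⟩ fun v => ⟨⊤, isAffineOpen_top _, fun z _ => trivial⟩
  have := hY inferInstance
  have hp : ∀ r : Γ(Y, ⊤), p.appTop r ∈ P.G.invariants := fun r => by
    show P.G.s.appTop (p.appTop r) = P.G.t.appTop (p.appTop r)
    exact congrArg (fun f : P.G.R ⟶ Y => f.appTop r) w.symm
  let φ : Γ(Y, ⊤) ⟶ CommRingCat.of P.K := CommRingCat.ofHom (p.appTop.hom.codRestrict P.G.invariants hp)
  have hg : P.G.toQuot ≫ Spec.map φ ≫ Y.isoSpec.inv = p := by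
    rw [← Category.assoc, Iso.comp_inv_eq, Scheme.isoSpec_hom]
    refine Eq.trans ?_ (Scheme.toSpecΓ_naturality p).symm
    rw [Grpd.GroupoidScheme.toQuot, Category.assoc, ← Spec.map_comp]
    rfl
  refine ⟨(Spec.map φ ≫ Y.isoSpec.inv) ≫ hc.desc (Cofork.ofπ U.hom ((Over.w P.t).trans (Over.w P.s).symm)), ?_⟩
  rw [← Category.assoc, hg]
  exact hc.fac _ WalkingParallelPair.one

/-- The structure map of the spectrum of the invariants. -/
noncomputable def sM : Spec (CommRingCat.of P.K) ⟶ S := P.exists_structure.choose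

/-- The spectrum of the invariants. -/
noncomputable def M : Over S := Over.mk P.sM

/-- The quotient map. -/
noncomputable def q : U ⟶ P.M := Over.homMk P.G.toQuot P.exists_structure.choose_spec

theorem t_q : P.t ≫ P.q = P.s ≫ P.q := Over.OverMorphism.ext (GrpdLib.t_toQuot_eq P.G)

theorem arr_q {W : Over S} {a b : W ⟶ U} (m : x.obj (Over.mk a) ⟶ x.obj (Over.mk b))
    (hm : 𝒳.p.IsHomLift (𝟙 W) m) : a ≫ P.q = b ≫ P.q := by
  obtain ⟨f, hf⟩ := (P.pt W).surjective ⟨a, b, m, hm⟩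
  have ha : a = f ≫ P.t := (congrArg Arr.a hf).symm.trans (P.pt_a W f)
  have hb : b = f ≫ P.s := (congrArg Arr.b hf).symm.trans (P.pt_b f)
  rw [ha, hb, Category.assoc, Category.assoc, P.t_q]

variable (hx : Gerb.LocSurjObj (J S) x)

theorem exists_π (hx : Gerb.LocSurjObj (J S) x) :
    ∃ π : 𝒳 ⥤ᵇ AlgSt.ofSch P.M, mapOfOver (BasedFunctor.comp x π) = (yon S).map P.q :=
  exists_desc P.h𝒳 hx fun _ _ _ m hm => ULift.ext _ _ (P.arr_q m hm)

omit hx

/-- The spectrum of the coordinates is the scheme. -/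
noncomputable def objIso (X : Over S) [IsAffine X.left] {B : Type u} [CommRing B] [Algebra B Γ(X.left, ⊤)]
    (sB : Spec (CommRingCat.of B) ⟶ S)
    (h : X.left.isoSpec.hom ≫ Spec.map (CommRingCat.ofHom (algebraMap B Γ(X.left, ⊤))) ≫ sB = X.hom) :
    ob sB Γ(X.left, ⊤) ≅ X :=
  Over.isoMk X.left.isoSpec.symm (by
    show X.left.isoSpec.inv ≫ X.hom = Spec.map _ ≫ sB
    rw [← h, Iso.inv_hom_id_assoc])

theorem toQuot_eq : U.left.isoSpec.hom ≫ Spec.map (CommRingCat.ofHom (algebraMap P.K Γ(P.G.U, ⊤))) =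
    P.G.toQuot := rfl

variable {π : 𝒳 ⥤ᵇ AlgSt.ofSch P.M} (hπ : mapOfOver (BasedFunctor.comp x π) = (yon S).map P.q)

include hπ in
theorem isCatModuli_fpFst (hx : Gerb.LocSurjObj (J S) x) {T : Over S} [IsAffine T.left] (g : T ⟶ P.M)
    (hg : Flat g.left) : AlgSt.IsCatModuli (FibCat.fpFst (AlgSt.ofSpMap ((yon S).map g)) π) := by
  obtain ⟨algR, s, t, H, hs, ht⟩ := P.qdata
  -- the base of the base change
  let E : Type u := Γ(T.left, ⊤)
  let φ : CommRingCat.of P.K ⟶ Γ(T.left, ⊤) := Spec.preimage (T.left.isoSpec.inv ≫ g.left)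
  let : Algebra P.K E := φ.hom.toAlgebra
  have hφ : T.left.isoSpec.hom ≫ Spec.map (CommRingCat.ofHom (algebraMap P.K E)) = g.left := by
    show _ ≫ Spec.map φ = _
    rw [Spec.map_preimage, Iso.hom_inv_id_assoc]
  have : Module.Flat P.K E := by
    have : Flat (Spec.map φ) := by
      rw [Spec.map_preimage]
      exact MorphismProperty.comp_mem @Flat _ _ inferInstance hg
    exact RingHom.flat_algebraMap_iff.mp ((HasRingHomProperty.Spec_iff (P := @Flat)).mp this)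
  let jT : ob P.sM E ≅ T := objIso T P.sM (by
    rw [← Category.assoc, hφ]; exact Over.w g)
  let jU : ob P.sM Γ(P.G.U, ⊤) ≅ U := Over.isoMk P.G.U.isoSpec.symm (by
    show P.G.U.isoSpec.inv ≫ U.hom = Spec.map (CommRingCat.ofHom P.G.invariants.subtype) ≫ P.sM
    refine Eq.trans (congrArg (P.G.U.isoSpec.inv ≫ ·) P.exists_structure.choose_spec.symm) ?_
    refine Eq.trans (congrArg (fun z => P.G.U.isoSpec.inv ≫ z ≫ P.sM) (GrpdLib.isoSpec_hom_toQuot P.G)) ?_
    rw [Category.assoc, Iso.inv_hom_id_assoc])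
  let jR : ob P.sM Γ(P.G.R, ⊤) ≅ P.R := Over.isoMk P.G.R.isoSpec.symm (by
    have e : algebraMap P.K Γ(P.G.R, ⊤) = P.G.s.appTop.hom.comp P.G.invariants.subtype := by
      rw [← hs]; exact s.comp_algebraMap.symm
    show P.G.R.isoSpec.inv ≫ P.R.hom = Spec.map (CommRingCat.ofHom (algebraMap P.K Γ(P.G.R, ⊤))) ≫ P.sM
    rw [e, CommRingCat.ofHom_comp, Spec.map_comp, Category.assoc]
    have h2 : P.G.R.isoSpec.inv ≫ P.G.s = Spec.map P.G.s.appTop ≫ P.G.U.isoSpec.inv :=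
      (Scheme.isoSpec_inv_naturality P.G.s).symm
    refine Eq.trans (congrArg (P.G.R.isoSpec.inv ≫ ·) (Over.w P.s).symm) ?_
    refine Eq.trans (Category.assoc _ _ _).symm (Eq.trans (congrArg (· ≫ U.hom) h2) ?_)
    rw [Category.assoc]
    refine congrArg (Spec.map P.G.s.appTop ≫ ·) ?_
    exact Over.w jU.hom)
  have hsR : mp P.sM s ≫ jU.hom = jR.hom ≫ P.s := Over.OverMorphism.ext (by
    show Spec.map (CommRingCat.ofHom s.toRingHom) ≫ P.G.U.isoSpec.inv = P.G.R.isoSpec.inv ≫ P.G.s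
    rw [hs]
    exact Scheme.isoSpec_inv_naturality P.G.s)
  have htR : mp P.sM t ≫ jU.hom = jR.hom ≫ P.t := Over.OverMorphism.ext (by
    show Spec.map (CommRingCat.ofHom t.toRingHom) ≫ P.G.U.isoSpec.inv = P.G.R.isoSpec.inv ≫ P.G.t
    rw [ht]
    exact Scheme.isoSpec_inv_naturality P.G.t)
  let sE : Spec (CommRingCat.of E) ⟶ S := (ob P.sM E).hom
  let XT : Over S := ob sE (E ⊗[P.K] Γ(P.G.U, ⊤))
  let jE : ob sE E ≅ ob P.sM E := Over.isoMk (Iso.refl _) (by
    show 𝟙 _ ≫ sE = Spec.map (CommRingCat.ofHom (algebraMap E E)) ≫ sE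
    rw [Algebra.algebraMap_self]; exact congrArg (· ≫ sE) (Spec.map_id _).symm)
  let a₀ : XT ⟶ ob sE E := mp sE (Algebra.ofId E (E ⊗[P.K] Γ(P.G.U, ⊤)))
  let a : XT ⟶ T := a₀ ≫ jE.hom ≫ jT.hom
  let ob' : ∀ (C : Type u) [CommRing C] [Algebra P.K C], ob sE (E ⊗[P.K] C) ⟶ ob P.sM C := fun C _ _ =>
    Over.homMk (Spec.map (CommRingCat.ofHom (Algebra.TensorProduct.includeRight (R := P.K) (A := E) (B := C)).toRingHom)) (by
      show Spec.map _ ≫ Spec.map (CommRingCat.ofHom (algebraMap P.K C)) ≫ P.sM =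
        Spec.map (CommRingCat.ofHom (algebraMap E (E ⊗[P.K] C))) ≫ Spec.map (CommRingCat.ofHom (algebraMap P.K E)) ≫ P.sM
      rw [← Category.assoc, ← Category.assoc, ← Spec.map_comp, ← Spec.map_comp, ← CommRingCat.ofHom_comp,
        ← CommRingCat.ofHom_comp]
      congr 3
      exact ((Algebra.TensorProduct.includeRight (R := P.K) (A := E) (B := C)).comp_algebraMap).trans
        (IsScalarTower.algebraMap_eq P.K E (E ⊗[P.K] C)))
  let b : XT ⟶ U := ob' Γ(P.G.U, ⊤) ≫ jU.hom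
  have hUq : jU.hom ≫ P.q = Over.homMk (Spec.map (CommRingCat.ofHom (algebraMap P.K Γ(P.G.U, ⊤)))) rfl :=
    Over.OverMorphism.ext (by
      show U.left.isoSpec.inv ≫ P.G.toQuot = _
      rw [← P.toQuot_eq, Iso.inv_hom_id_assoc]
      rfl)
  have hTg : jT.hom ≫ g = Over.homMk (Spec.map (CommRingCat.ofHom (algebraMap P.K E))) rfl :=
    Over.OverMorphism.ext (by
      show T.left.isoSpec.inv ≫ g.left = _
      rw [← hφ, Iso.inv_hom_id_assoc]
      rfl)
  have w : a ≫ g = b ≫ P.q := by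
    simp only [a, b, Category.assoc]
    rw [hUq, hTg]
    refine Over.OverMorphism.ext ?_
    show Spec.map (CommRingCat.ofHom (Algebra.ofId E (E ⊗[P.K] Γ(P.G.U, ⊤))).toRingHom) ≫ 𝟙 _ ≫ Spec.map _ =
      Spec.map _ ≫ Spec.map _
    rw [Category.id_comp, ← Spec.map_comp, ← Spec.map_comp, ← CommRingCat.ofHom_comp, ← CommRingCat.ofHom_comp]
    congr 2
    exact (IsScalarTower.algebraMap_eq P.K E (E ⊗[P.K] Γ(P.G.U, ⊤))).symm.trans
      ((Algebra.TensorProduct.includeRight (R := P.K) (A := E) (B := Γ(P.G.U, ⊤))).comp_algebraMap).symm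
  refine isCatModuli_bc hπ a b w P.h𝒳 hx (fun {W} v z hvz => ?_) fun N hN h hh => ?_
  · let v₀ : W.left ⟶ Spec (CommRingCat.of E) := v.left ≫ T.left.isoSpec.hom
    let z₀ : W.left ⟶ Spec (CommRingCat.of Γ(P.G.U, ⊤)) := z.left ≫ U.left.isoSpec.hom
    let l : W.left ⟶ Spec (CommRingCat.of (E ⊗[P.K] Γ(P.G.U, ⊤))) :=
      pullback.lift v₀ z₀ (by
        simp only [v₀, z₀, Category.assoc, hφ]
        refine (congrArg Over.Hom.left hvz).trans ?_
        exact congrArg (z.left ≫ ·) P.toQuot_eq.symm) ≫ (pullbackSpecIso P.K E Γ(P.G.U, ⊤)).hom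
    have h1 : l ≫ Spec.map (CommRingCat.ofHom (algebraMap E (E ⊗[P.K] Γ(P.G.U, ⊤)))) = v₀ :=
      (Category.assoc _ _ _).trans ((congrArg (_ ≫ ·) (pullbackSpecIso_hom_fst _ _ _)).trans (pullback.lift_fst _ _ _))
    have h2 : l ≫ Spec.map (CommRingCat.ofHom
        (Algebra.TensorProduct.includeRight (R := P.K) (A := E) (B := Γ(P.G.U, ⊤))).toRingHom) = z₀ :=
      (Category.assoc _ _ _).trans ((congrArg (_ ≫ ·) (pullbackSpecIso_hom_snd _ _ _)).trans (pullback.lift_snd _ _ _))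
    refine ⟨Over.homMk l ?_, Over.OverMorphism.ext ?_, Over.OverMorphism.ext ?_⟩
    · show l ≫ Spec.map _ ≫ sE = W.hom
      rw [← Category.assoc, h1]
      show v₀ ≫ (ob P.sM E).hom = W.hom
      rw [← Over.w jT.hom, ← Over.w v]
      simp only [v₀, Category.assoc]
      show v.left ≫ T.left.isoSpec.hom ≫ T.left.isoSpec.inv ≫ T.hom = _
      rw [Iso.hom_inv_id_assoc]
    · show l ≫ Spec.map _ ≫ 𝟙 _ ≫ T.left.isoSpec.inv = v.left
      rw [Category.id_comp, ← Category.assoc]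
      refine (congrArg (· ≫ T.left.isoSpec.inv) h1).trans ?_
      simp [v₀]
    · show l ≫ Spec.map _ ≫ U.left.isoSpec.inv = z.left
      rw [← Category.assoc, h2]
      simp [z₀]
  -- invariance
  let v : ob sE (E ⊗[P.K] Γ(P.G.R, ⊤)) ⟶ XT := mp sE (bcMap E t)
  let v' : ob sE (E ⊗[P.K] Γ(P.G.R, ⊤)) ⟶ XT := mp sE (bcMap E s)
  have hva : v ≫ a = v' ≫ a := by
    simp only [v, v', a, a₀, ← Category.assoc, mp_comp]
    congr 2
    congr 1
    exact Subsingleton.elim _ _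
  let f : ob sE (E ⊗[P.K] Γ(P.G.R, ⊤)) ⟶ P.R := ob' Γ(P.G.R, ⊤) ≫ jR.hom
  have hb : ∀ (σ : Γ(P.G.U, ⊤) →ₐ[P.K] Γ(P.G.R, ⊤)), mp sE (bcMap E σ) ≫ ob' Γ(P.G.U, ⊤) =
      ob' Γ(P.G.R, ⊤) ≫ mp P.sM σ := fun σ => Over.OverMorphism.ext (by
    show Spec.map _ ≫ Spec.map _ = Spec.map _ ≫ Spec.map _
    rw [← Spec.map_comp, ← Spec.map_comp, ← CommRingCat.ofHom_comp, ← CommRingCat.ofHom_comp]
    congr 2)
  have hvb : v ≫ b = f ≫ P.t := by
    show mp sE (bcMap E t) ≫ ob' Γ(P.G.U, ⊤) ≫ jU.hom = (ob' Γ(P.G.R, ⊤) ≫ jR.hom) ≫ P.t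
    rw [← Category.assoc, hb, Category.assoc, htR, ← Category.assoc]
  have hvb' : v' ≫ b = f ≫ P.s := by
    show mp sE (bcMap E s) ≫ ob' Γ(P.G.U, ⊤) ≫ jU.hom = (ob' Γ(P.G.R, ⊤) ≫ jR.hom) ≫ P.s
    rw [← Category.assoc, hb, Category.assoc, hsR, ← Category.assoc]
  have := (P.pt _ f).lift
  have h0 := hh v v' hva (x.map (ofEq (hvb.trans (P.pt_a _ f).symm)) ≫ (P.pt _ f).m ≫
    x.map (ofEq ((P.pt_b f).trans hvb'.symm))) (by
      have := ofEq_lift (x := x) (hvb.trans (P.pt_a _ f).symm)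
      have := ofEq_lift (x := x) ((P.pt_b f).trans hvb'.symm)
      infer_instance)
  have h0' : (yon S).map v' ≫ h = (yon S).map v ≫ h := by
    apply (J S).uliftYonedaEquiv.injective
    rw [GrothendieckTopology.uliftYonedaEquiv_comp, GrothendieckTopology.uliftYonedaEquiv_uliftYoneda_map,
      GrothendieckTopology.uliftYonedaEquiv_comp, GrothendieckTopology.uliftYonedaEquiv_uliftYoneda_map]
    exact h0.symm
  obtain ⟨χ, hχ, hu⟩ := existsUnique_factor' sE h (H.baseChange E) hN h0'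
  have hc : (jE.hom ≫ jT.hom) ≫ jT.inv ≫ jE.inv = 𝟙 _ := by simp
  refine ⟨(yon S).map (jT.inv ≫ jE.inv) ≫ χ, ?_, fun χ' hχ' => ?_⟩
  · show (yon S).map (a₀ ≫ jE.hom ≫ jT.hom) ≫ (yon S).map (jT.inv ≫ jE.inv) ≫ χ = h
    rw [← Category.assoc, ← Functor.map_comp, Category.assoc, hc, Category.comp_id]
    exact hχ
  · rw [← hu ((yon S).map (jE.hom ≫ jT.hom) ≫ χ') (by
      show (yon S).map a₀ ≫ (yon S).map (jE.hom ≫ jT.hom) ≫ χ' = h
      rw [← Category.assoc, ← Functor.map_comp]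
      exact hχ'), ← Category.assoc, ← Functor.map_comp]
    simp

end Pres

end Groth.Agent.WNA49
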